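import Cfsg.Agent.Lib.Schur.Basic
import Mathlib.GroupTheory.Transfer
import Mathlib.GroupTheory.FreeGroup.NielsenSchreier

/-!
# Restriction and corestriction between the multipliers of a group and of a subgroup
-/

set_option autoImplicit false

namespace Cfsg.Lib.Schur

open Subgroup
open scoped Pointwise commutatorElement

universe u v

variable {Q : Type v} [Group Q]

/-- The transfer of an element of a normal subgroup inside `H` is the product of its conjugates. -/
theorem transfer_eq_prod_conj {G : Type u} [Group G] {H : Subgroup G} [H.FiniteIndex] {A : Type v} [CommGroup A]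
    (ψ : H →* A) {r : G} {N : Subgroup G} [N.Normal] (hN : N ≤ H) (hr : r ∈ N) [Fintype (G ⧸ H)] :
    MonoidHom.transfer ψ r = ∏ q : G ⧸ H, ψ ⟨q.out⁻¹ * r * q.out,
      hN (by simpa using Subgroup.Normal.conj_mem inferInstance r hr q.out⁻¹)⟩ := by
  let T : H.LeftTransversal := ⟨Set.range Quotient.out, isComplement_range_left Quotient.out_eq'⟩
  have hT : ∀ q : G ⧸ H, (T.2.leftQuotientEquiv q : G) = q.out :=
    fun q => IsComplement.leftQuotientEquiv_apply Quotient.out_eq' q
  rw [MonoidHom.transfer_def ψ T r, Subgroup.leftTransversals.diff]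
  refine Finset.prod_congr ?_ fun q _ => congrArg ψ (Subtype.ext ?_)
  · ext; simp
  · have hq : r⁻¹ • q = q := by
      induction q using QuotientGroup.induction_on with
      | _ g =>
        show ((r⁻¹ * g : G) : G ⧸ H) = (g : G ⧸ H)
        rw [QuotientGroup.eq]
        exact hN (by simpa [mul_assoc] using Subgroup.Normal.conj_mem inferInstance r hr g⁻¹)
    show (T.2.leftQuotientEquiv q : G)⁻¹ * ((r • T).2.leftQuotientEquiv q : G) = q.out⁻¹ * r * q.out
    rw [Subgroup.smul_apply_eq_smul_apply_inv_smul, hq, hT, smul_eq_mul, mul_assoc]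

/-- Restriction and corestriction: the composite is the power by the index. -/
theorem exists_res_cor [Finite Q] (U : Subgroup Q) :
    ∃ (tr : M Q →* M U) (cor : M U →* M Q), ∀ c : M Q, cor (tr c) = c ^ U.index := by
  classical
  set π₀ := canon Q with hπ₀
  let U' : Subgroup (FreeGroup Q) := U.comap π₀
  have : IsFreeGroup U' := inferInstance
  let πU : U' →* U := π₀.subgroupComap U
  have hπU : Function.Surjective πU := π₀.subgroupComap_surjective_of_surjective U canon_surjective
  have hidx : U'.index = U.index := Subgroup.index_comap_of_surjective U canon_surjective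
  have : U'.FiniteIndex := ⟨by rw [hidx]; exact U.index_ne_zero_of_finite⟩
  let _ : Fintype (FreeGroup Q ⧸ U') := U'.fintypeQuotientOfFiniteIndex
  have hRU : π₀.ker ≤ U' := fun x hx => by
    show π₀ x ∈ U
    rw [show π₀ x = 1 from hx]; exact one_mem U
  let K := (covMap πU).ker
  let _ : CommGroup K :=
    { (inferInstance : Group K) with
      mul_comm := fun a b => Subtype.ext (mem_center_iff.mp (ker_covMap_le_center πU b.2) a) }
  -- the class of a relator in the cover of the subgroup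
  let ι : π₀.ker →* K :=
    { toFun := fun r => ⟨((⟨r.1, hRU r.2⟩ : U') : Cov πU), Subtype.ext (show π₀ r.1 = 1 from r.2)⟩
      map_one' := rfl
      map_mul' := fun a b => rfl }
  have hι : ∀ (u : FreeGroup Q) (hu : u ∈ U') (r : π₀.ker),
      ι ⟨u * r.1 * u⁻¹, (inferInstance : π₀.ker.Normal).conj_mem r.1 r.2 u⟩ = ι r := fun u hu r => by
    refine Subtype.ext ?_
    show (((⟨u, hu⟩ : U') * ⟨r.1, hRU r.2⟩ * (⟨u, hu⟩ : U')⁻¹ : U') : Cov πU) = ((⟨r.1, hRU r.2⟩ : U') : Cov πU)
    have hc : ((⟨u, hu⟩ : U') : Cov πU) * ((⟨r.1, hRU r.2⟩ : U') : Cov πU) =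
        ((⟨r.1, hRU r.2⟩ : U') : Cov πU) * ((⟨u, hu⟩ : U') : Cov πU) :=
      mem_center_iff.mp (ker_covMap_le_center πU (ι r).2) _
    rw [QuotientGroup.mk_mul, QuotientGroup.mk_mul, hc, mul_assoc, ← QuotientGroup.mk_mul, mul_inv_cancel,
      QuotientGroup.mk_one, mul_one]
  let fac : FreeGroup Q ⧸ U' → (π₀.ker →* K) := fun q =>
    ι.comp
      { toFun := fun r => ⟨q.out⁻¹ * r.1 * q.out,
          by simpa using (inferInstance : π₀.ker.Normal).conj_mem r.1 r.2 q.out⁻¹⟩
        map_one' := Subtype.ext (by simp)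
        map_mul' := fun a b => Subtype.ext (by simp [mul_assoc]) }
  let N : π₀.ker →* K := ∏ q, fac q
  have hN : ∀ r, N r = ∏ q, fac q r := fun r => MonoidHom.finsetProd_apply _ _ _
  have hinv : ∀ (g : FreeGroup Q) (r : π₀.ker),
      N ⟨g * r.1 * g⁻¹, (inferInstance : π₀.ker.Normal).conj_mem r.1 r.2 g⟩ = N r := fun g r => by
    rw [hN, hN]
    refine Fintype.prod_equiv (MulAction.toPerm (g⁻¹ : FreeGroup Q)) _ _ fun q => ?_
    have hu : q.out⁻¹ * g * (g⁻¹ • q).out ∈ U' := by
      have h1 : (((g⁻¹ • q).out : FreeGroup Q) : FreeGroup Q ⧸ U') = g⁻¹ • q := QuotientGroup.out_eq' _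
      have h2 : ((g * (g⁻¹ • q).out : FreeGroup Q) : FreeGroup Q ⧸ U') = q := by
        show g • (((g⁻¹ • q).out : FreeGroup Q) : FreeGroup Q ⧸ U') = q
        rw [h1, smul_inv_smul]
      rw [mul_assoc, ← QuotientGroup.eq, h2, QuotientGroup.out_eq']
    refine Eq.trans ?_ (hι _ hu _)
    refine congrArg ι (Subtype.ext ?_)
    show q.out⁻¹ * (g * r.1 * g⁻¹) * q.out = q.out⁻¹ * g * (g⁻¹ • q).out * ((g⁻¹ • q).out⁻¹ * r.1 * (g⁻¹ • q).out) *
      (q.out⁻¹ * g * (g⁻¹ • q).out)⁻¹
    group
  -- descend to the kernel of the free central extension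
  let q₀ : π₀.ker →* (covMap π₀).ker :=
    ((QuotientGroup.mk' (rel π₀)).comp π₀.ker.subtype).codRestrict _ fun r => r.2
  have hq₀ : Function.Surjective q₀ := by
    rintro ⟨c, hc⟩
    obtain ⟨x, rfl⟩ := QuotientGroup.mk_surjective c
    exact ⟨⟨x, hc⟩, rfl⟩
  have hrel : q₀.ker ≤ N.ker := by
    have key : rel π₀ ≤ N.ker.map π₀.ker.subtype := by
      unfold rel
      rw [commutator_le]
      intro r hr x _
      refine ⟨⟨r * x * r⁻¹ * x⁻¹, ?_⟩, ?_, rfl⟩
      · exact rel_le_ker π₀ (commutator_mem_commutator hr (mem_top x))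
      · show N _ = 1
        have : (⟨r * x * r⁻¹ * x⁻¹, rel_le_ker π₀ (commutator_mem_commutator hr (mem_top x))⟩ : π₀.ker) =
            ⟨r, hr⟩ * ⟨x * r⁻¹ * x⁻¹, (inferInstance : π₀.ker.Normal).conj_mem _ (inv_mem hr) x⟩ :=
          Subtype.ext (by simp [mul_assoc])
        rw [this, map_mul]
        rw [show N ⟨x * r⁻¹ * x⁻¹, (inferInstance : π₀.ker.Normal).conj_mem _ (inv_mem hr) x⟩ = N ⟨r, hr⟩⁻¹ from
          hinv x (⟨r, hr⟩⁻¹), ← map_mul, mul_inv_cancel, map_one]
    intro r hr
    obtain ⟨r', hr', he⟩ := key ((QuotientGroup.eq_one_iff r.1).mp (congrArg Subtype.val hr))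
    rwa [Subtype.ext he] at hr'
  let N₀ : (covMap π₀).ker →* K := q₀.liftOfSurjective hq₀ ⟨N, hrel⟩
  have hN₀ : ∀ r, N₀ (q₀ r) = N r := fun r => MonoidHom.liftOfRightInverse_comp_apply _ _ _ _ r
  -- the transfer lands in the derived subgroup
  have hmem : ∀ c : M Q, (N₀ ⟨c.1, c.2.1⟩ : Cov πU) ∈ mult πU := fun c => by
    refine ⟨(N₀ _).2, ?_⟩
    have h := c.2.2
    rw [show commutator (Cov π₀) = (commutator (FreeGroup Q)).map (QuotientGroup.mk' (rel π₀)) by
      rw [_root_.commutator_def, _root_.commutator_def, Subgroup.map_commutator,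
        map_top_of_surjective _ (QuotientGroup.mk'_surjective _)]] at h
    obtain ⟨x, hx, hxc⟩ := h
    have hxR : x ∈ π₀.ker := by
      show covMap π₀ (x : Cov π₀) = 1
      rw [show (x : Cov π₀) = c.1 from hxc]; exact c.2.1
    rw [show (⟨c.1, c.2.1⟩ : (covMap π₀).ker) = q₀ ⟨x, hxR⟩ from Subtype.ext hxc.symm, hN₀]
    let ψ : U' →* Abelianization (Cov πU) := Abelianization.of.comp (QuotientGroup.mk' (rel πU))
    have h1 : MonoidHom.transfer ψ x = 1 := Abelianization.commutator_subset_ker _ hx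
    rw [transfer_eq_prod_conj ψ hRU hxR] at h1
    refine (QuotientGroup.eq_one_iff _).mp ?_
    show (Abelianization.of.comp K.subtype) (N ⟨x, hxR⟩) = 1
    rw [hN, map_prod]
    exact h1
  let tr : M Q →* mult πU :=
    (((covMap πU).ker.subtype.comp (N₀.comp (Subgroup.inclusion (inf_le_left : mult π₀ ≤ (covMap π₀).ker))))).codRestrict _
      hmem
  -- corestriction
  have hcor0 : rel πU ≤ ((QuotientGroup.mk' (rel π₀)).comp U'.subtype).ker := by
    unfold rel
    rw [commutator_le]
    intro r hr x _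
    show ((⁅(r : FreeGroup Q), (x : FreeGroup Q)⁆ : FreeGroup Q) : Cov π₀) = 1
    exact (QuotientGroup.eq_one_iff _).mpr (commutator_mem_commutator (congrArg Subtype.val hr) (mem_top _))
  let cor₀ : Cov πU →* Cov π₀ := QuotientGroup.lift _ _ hcor0
  have hcor : ∀ d ∈ mult πU, cor₀ d ∈ mult π₀ := fun d hd => by
    refine ⟨?_, ?_⟩
    · obtain ⟨x, rfl⟩ := QuotientGroup.mk_surjective d
      exact congrArg Subtype.val hd.1
    · have : (commutator (Cov πU)).map cor₀ ≤ commutator (Cov π₀) := by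
        rw [_root_.commutator_def, _root_.commutator_def, Subgroup.map_commutator]
        exact Subgroup.commutator_mono le_top le_top
      exact this (mem_map_of_mem _ hd.2)
  let cor : mult πU →* M Q := (cor₀.comp (mult πU).subtype).codRestrict _ fun d => hcor d.1 d.2
  let K₀ := (covMap π₀).ker
  let _ : CommGroup K₀ :=
    { (inferInstance : Group K₀) with
      mul_comm := fun a b => Subtype.ext (mem_center_iff.mp (ker_covMap_le_center π₀ b.2) a) }
  let cor₁ : K →* K₀ := (cor₀.comp K.subtype).codRestrict _ fun d => by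
    obtain ⟨x, hx⟩ := QuotientGroup.mk_surjective d.1
    have h1 : covMap πU (x : Cov πU) = 1 := by rw [hx]; exact d.2
    show covMap π₀ (cor₀ d.1) = 1
    rw [← hx]
    exact congrArg Subtype.val h1
  have key : ∀ c : M Q, cor (tr c) = c ^ U.index := fun c => by
    refine Subtype.ext ?_
    obtain ⟨r, hr⟩ := hq₀ ⟨c.1, c.2.1⟩
    have h : cor₁ (N r) = (q₀ r : K₀) ^ U.index := by
      rw [hN, map_prod, ← hidx, Subgroup.index_eq_card, Nat.card_eq_fintype_card]
      refine Finset.prod_eq_pow_card fun q _ => Subtype.ext ?_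
      show ((q.out⁻¹ * r.1 * q.out : FreeGroup Q) : Cov π₀) = (r.1 : Cov π₀)
      have hc : ((q.out⁻¹ : FreeGroup Q) : Cov π₀) * (r.1 : Cov π₀) = (r.1 : Cov π₀) * ((q.out⁻¹ : FreeGroup Q) : Cov π₀) :=
        mem_center_iff.mp (ker_covMap_le_center π₀ (q₀ r).2) _
      rw [QuotientGroup.mk_mul, QuotientGroup.mk_mul, hc, mul_assoc, ← QuotientGroup.mk_mul, inv_mul_cancel,
        QuotientGroup.mk_one, mul_one]
    have h' := congrArg Subtype.val h
    rw [hr] at h'
    show cor₀ (N₀ ⟨c.1, c.2.1⟩ : Cov πU) = c.1 ^ U.index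
    rw [← hr, hN₀]
    exact h'
  obtain ⟨e⟩ := nonempty_mult_equiv πU (canon U) hπU canon_surjective
  refine ⟨e.toMonoidHom.comp tr, cor.comp e.symm.toMonoidHom, fun c => ?_⟩
  show cor (e.symm (e (tr c))) = _
  rw [e.symm_apply_apply]
  exact key c

end Cfsg.Lib.Schur
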