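import Cfsg.Agent.Lib.Schur.Bilinear
import Mathlib.GroupTheory.SpecificGroups.Quaternion
import Mathlib.GroupTheory.SpecificGroups.Dihedral
import Mathlib.Data.ZMod.QuotientGroup

/-!
# Stem extensions of groups in which one generator inverts the other
-/

set_option autoImplicit false

namespace Cfsg.Lib.Schur

open Subgroup
open scoped commutatorElement

universe u v

/-- A homomorphism from a cyclic group onto a subgroup generated by an element of dividing order. -/
theorem exists_surjection_of_zpowers {Γ : Type u} [Group Γ] {K : Subgroup Γ} {d : Γ} {n : ℕ} (hd : d ∈ K)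
    (hK : K ≤ zpowers d) (hn : d ^ n = 1) :
    ∃ π : Multiplicative (ZMod n) →* K, Function.Surjective π := by
  let g : {f : ℤ →+ Additive K // f n = 0} := ⟨zmultiplesHom (Additive K) (Additive.ofMul ⟨d, hd⟩), by
    rw [zmultiplesHom_apply, natCast_zsmul]
    exact congrArg Additive.ofMul (show (⟨d, hd⟩ : K) ^ n = 1 from Subtype.ext hn)⟩
  refine ⟨AddMonoidHom.toMultiplicativeLeft (ZMod.lift n g), fun x => ?_⟩
  obtain ⟨i, hi⟩ := mem_zpowers_iff.mp (hK x.2)
  refine ⟨Multiplicative.ofAdd (i : ZMod n), ?_⟩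
  show Additive.toMul (ZMod.lift n g (i : ZMod n)) = x
  rw [ZMod.lift_coe]
  refine Subtype.ext ?_
  show ((⟨d, hd⟩ : K) ^ i : K).1 = x.1
  rw [Subgroup.coe_zpow, hi]

/-- Stem extensions of a group generated by `a` and `b` with `b a b⁻¹ = a⁻¹` and `a ^ n` commuting with
`b` in every central extension. -/
theorem inverting_stem {Γ : Type u} {Q : Type v} [Group Γ] [Group Q] {σ : Γ →* Q}
    (hσ : IsStemExtension σ) {a b : Q} {n : ℕ} (hgen : closure {a, b} = ⊤) (hab : b * a * b⁻¹ = a⁻¹)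
    (hn : ∀ A B : Γ, σ A = a → σ B = b → B * A ^ n * B⁻¹ = A ^ n) :
    ∃ c : Γ, c ^ n = 1 ∧ σ c = (a ^ 2)⁻¹ ∧ σ.ker ≤ zpowers c := by
  obtain ⟨A, hA⟩ := hσ.1 a
  obtain ⟨B, hB⟩ := hσ.1 b
  set z := A * (B * A * B⁻¹) with hzdef
  have hz : z ∈ center Γ := hσ.2.1 (by
    show σ _ = 1
    rw [hzdef, map_mul, map_mul, map_mul, map_inv, hA, hB, hab, mul_inv_cancel])
  have hBA : B * A * B⁻¹ = A⁻¹ * z := by rw [hzdef, inv_mul_cancel_left]
  have hcen := mem_center_iff.mp hz
  have hzA : Commute (A⁻¹) z := hcen _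
  set c := ⁅B, A⁆ with hc
  have hcA : c = A⁻¹ * A⁻¹ * z := by
    rw [hc, commutatorElement_def, hBA, mul_assoc, ← hcen A⁻¹, ← mul_assoc]
  have hcomA : Commute A c := by
    rw [hcA]
    exact (((Commute.refl A).inv_right).mul_right ((Commute.refl A).inv_right)).mul_right (hcen A)
  have hcB : B * c * B⁻¹ = c⁻¹ := by
    rw [hcA]
    calc B * (A⁻¹ * A⁻¹ * z) * B⁻¹ = (B * A * B⁻¹)⁻¹ * (B * A * B⁻¹)⁻¹ * (B * z * B⁻¹) := by group
      _ = (A⁻¹ * z)⁻¹ * (A⁻¹ * z)⁻¹ * z := by rw [hBA, hcen B, mul_inv_cancel_right]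
      _ = z⁻¹ * A * (z⁻¹ * A) * z := by group
      _ = z⁻¹ * A * z⁻¹ * (z * A) := by rw [← hcen A]; simp only [mul_assoc, inv_mul_cancel_left, mul_inv_cancel_left]
      _ = (A⁻¹ * A⁻¹ * z)⁻¹ := by simp only [mul_inv_rev, inv_inv, mul_assoc, inv_mul_cancel_left]
  have hN : (zpowers c).Normal := by
    rw [← normalizer_eq_top_iff, eq_top_iff, ← closure_sup_center hσ.2.1 {A, B} (by
      rw [Set.image_pair, hA, hB, hgen])]
    refine sup_le ((closure_le _).mpr ?_) (center_le_normalizer _)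
    rintro w (rfl | rfl)
    · refine mem_normalizer_iff.mpr fun x => ?_
      constructor
      · intro hx
        obtain ⟨i, rfl⟩ := mem_zpowers_iff.mp hx
        rw [(hcomA.zpow_right i).eq, mul_inv_cancel_right]
        exact hx
      · intro hx
        obtain ⟨i, hi⟩ := mem_zpowers_iff.mp hx
        have : x = c ^ i := by
          calc x = w⁻¹ * (w * x * w⁻¹) * w := by group
            _ = w⁻¹ * c ^ i * w := by rw [hi]
            _ = c ^ i := by rw [mul_assoc, ← (hcomA.zpow_right i).eq, inv_mul_cancel_left]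
        rw [this]; exact zpow_mem (mem_zpowers c) i
    · refine mem_normalizer_iff.mpr fun x => ?_
      constructor
      · intro hx
        obtain ⟨i, rfl⟩ := mem_zpowers_iff.mp hx
        rw [← conj_zpow, hcB]
        exact zpow_mem (inv_mem (mem_zpowers c)) i
      · intro hx
        obtain ⟨i, hi⟩ := mem_zpowers_iff.mp hx
        have h2 : w * (c ^ (-i)) * w⁻¹ = w * x * w⁻¹ := by
          rw [← conj_zpow, hcB, inv_zpow, zpow_neg, inv_inv, hi]
        rw [← mul_left_cancel (mul_right_cancel h2)]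
        exact zpow_mem (mem_zpowers c) _
  refine ⟨c, ?_, ?_, hσ.2.2.trans ?_⟩
  · have h1 := hn A B hA hB
    rw [← conj_pow, hBA, hzA.mul_pow] at h1
    rw [hcA, ((hzA.mul_left hzA)).mul_pow, (Commute.refl A⁻¹).mul_pow]
    rw [mul_assoc, h1, inv_pow, inv_mul_cancel]
  · rw [hcA, map_mul, map_mul, map_inv, hA, sq, mul_inv_rev]
    have : σ z = 1 := by rw [hzdef, map_mul, map_mul, map_mul, map_inv, hA, hB, hab, mul_inv_cancel]
    rw [this, mul_one]
  · refine commutator_le_of_two (x := B) (y := A) ?_ (zpowers c) (mem_zpowers c)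
    exact closure_sup_center hσ.2.1 {B, A} (by rw [Set.image_pair, hA, hB, Set.pair_comm, hgen])

theorem quaternion_gen (n : ℕ) [NeZero n] :
    closure ({QuaternionGroup.a 1, QuaternionGroup.xa 0} : Set (QuaternionGroup n)) = ⊤ := by
  refine eq_top_iff.mpr fun g _ => ?_
  have ha : ∀ i, QuaternionGroup.a i ∈ closure ({QuaternionGroup.a 1, QuaternionGroup.xa 0} : Set (QuaternionGroup n)) := by
    intro i
    have := pow_mem (subset_closure (Set.mem_insert (QuaternionGroup.a (1 : ZMod (2 * n))) {QuaternionGroup.xa 0})) i.val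
    rwa [QuaternionGroup.a_one_pow, ZMod.natCast_zmod_val] at this
  cases g with
  | a i => exact ha i
  | xa i =>
    have := mul_mem (subset_closure (show QuaternionGroup.xa (0 : ZMod (2 * n)) ∈ ({QuaternionGroup.a 1, QuaternionGroup.xa 0} : Set (QuaternionGroup n)) from Or.inr rfl)) (ha i)
    rwa [QuaternionGroup.xa_mul_a, zero_add] at this

theorem dihedral_gen (n : ℕ) [NeZero n] :
    closure ({DihedralGroup.r 1, DihedralGroup.sr 0} : Set (DihedralGroup n)) = ⊤ := by
  refine eq_top_iff.mpr fun g _ => ?_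
  have ha : ∀ i, DihedralGroup.r i ∈ closure ({DihedralGroup.r 1, DihedralGroup.sr 0} : Set (DihedralGroup n)) := by
    intro i
    have := pow_mem (subset_closure (Set.mem_insert (DihedralGroup.r (1 : ZMod n)) {DihedralGroup.sr 0})) i.val
    rwa [DihedralGroup.r_one_pow, ZMod.natCast_zmod_val] at this
  cases g with
  | r i => exact ha i
  | sr i =>
    have := mul_mem (subset_closure (show DihedralGroup.sr (0 : ZMod n) ∈ ({DihedralGroup.r 1, DihedralGroup.sr 0} : Set (DihedralGroup n)) from Or.inr rfl)) (ha i)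
    rwa [DihedralGroup.sr_mul_r, zero_add] at this

/-- The kernel of a stem extension of a dihedral group is controlled by one element. -/
theorem dihedral_stem {n : ℕ} [NeZero n] {Γ : Type u} [Group Γ] {σ : Γ →* DihedralGroup n}
    (hσ : IsStemExtension σ) :
    ∃ c : Γ, c ^ n = 1 ∧ ∀ k ∈ σ.ker, ∃ i : ℤ, c ^ i = k ∧ (n : ℤ) ∣ 2 * i := by
  obtain ⟨c, hc, hσc, hle⟩ := inverting_stem (n := n) hσ (dihedral_gen n)
    (by rw [DihedralGroup.inv_sr, DihedralGroup.inv_r, DihedralGroup.sr_mul_r, DihedralGroup.sr_mul_sr]; simp)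
    (fun A B hA hB => by
      have hk : A ^ n ∈ center Γ := hσ.2.1 (by
        show σ _ = 1
        rw [map_pow, hA, DihedralGroup.r_one_pow, ZMod.natCast_self, ← DihedralGroup.r_zero])
      rw [mem_center_iff.mp hk B, mul_inv_cancel_right])
  refine ⟨c, hc, fun k hk => ?_⟩
  obtain ⟨i, hi⟩ := mem_zpowers_iff.mp (hle hk)
  refine ⟨i, hi, ?_⟩
  have h1 : σ (c ^ i) = 1 := by rw [hi]; exact hk
  rw [map_zpow, hσc, inv_zpow, inv_eq_one, ← zpow_natCast, ← zpow_mul, ← orderOf_dvd_iff_zpow_eq_one,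
    DihedralGroup.orderOf_r_one] at h1
  exact_mod_cast h1

end Cfsg.Lib.Schur
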