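import Cfsg.Agent.Lib.Schur.Basic

/-!
# Central extensions by bilinear cocycles, and groups generated modulo the centre by few elements
-/

set_option autoImplicit false

namespace Cfsg.Lib.Schur

open Subgroup
open scoped commutatorElement

universe u v

/-- A pairing into an abelian group that is multiplicative in both variables. -/
structure Pairing (G : Type u) [Group G] (Z : Type v) [CommGroup Z] where
  /-- the underlying map -/
  toFun : G → G → Z
  map_mul_left : ∀ a b c, toFun (a * b) c = toFun a c * toFun b c
  map_mul_right : ∀ a b c, toFun a (b * c) = toFun a b * toFun a c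

namespace Pairing

variable {G : Type u} [Group G] {Z : Type v} [CommGroup Z] (β : Pairing G Z)

theorem map_one_left (c : G) : β.toFun 1 c = 1 := by
  have := β.map_mul_left 1 1 c
  rwa [mul_one, left_eq_mul] at this

theorem map_one_right (c : G) : β.toFun c 1 = 1 := by
  have := β.map_mul_right c 1 1
  rwa [mul_one, left_eq_mul] at this

theorem map_inv_left (a c : G) : β.toFun a⁻¹ c = (β.toFun a c)⁻¹ := by
  refine eq_inv_of_mul_eq_one_left ?_
  rw [← β.map_mul_left, inv_mul_cancel, β.map_one_left]

/-- The extension defined by a pairing. -/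
@[ext]
structure Ext (β : Pairing G Z) where
  /-- the image in `G` -/
  base : G
  /-- the central coordinate -/
  fib : Z

instance : Mul β.Ext := ⟨fun x y => ⟨x.base * y.base, x.fib * y.fib * β.toFun x.base y.base⟩⟩
instance : One β.Ext := ⟨⟨1, 1⟩⟩
instance : Inv β.Ext := ⟨fun x => ⟨x.base⁻¹, x.fib⁻¹ * β.toFun x.base x.base⟩⟩

theorem mul_def (x y : β.Ext) : x * y = ⟨x.base * y.base, x.fib * y.fib * β.toFun x.base y.base⟩ := rfl
theorem one_def : (1 : β.Ext) = ⟨1, 1⟩ := rfl
theorem inv_def (x : β.Ext) : x⁻¹ = ⟨x.base⁻¹, x.fib⁻¹ * β.toFun x.base x.base⟩ := rfl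

instance : Group β.Ext where
  mul_assoc x y z := by
    ext
    · exact mul_assoc _ _ _
    · simp only [mul_def, β.map_mul_left, β.map_mul_right, mul_comm, mul_left_comm, mul_assoc]
  one_mul x := by
    ext
    · exact one_mul _
    · simp [mul_def, one_def, β.map_one_left]
  mul_one x := by
    ext
    · exact mul_one _
    · simp [mul_def, one_def, β.map_one_right]
  inv_mul_cancel x := by
    ext
    · exact inv_mul_cancel _
    · simp only [mul_def, inv_def, one_def, β.map_inv_left]
      rw [mul_right_comm x.fib⁻¹ (β.toFun x.base x.base) x.fib, inv_mul_cancel, one_mul, mul_inv_cancel]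

instance [Finite G] [Finite Z] : Finite β.Ext :=
  Finite.of_equiv (G × Z) ⟨fun x => ⟨x.1, x.2⟩, fun x => (x.base, x.fib), fun _ => rfl, fun _ => rfl⟩

/-- The projection. -/
def proj : β.Ext →* G where
  toFun := Ext.base
  map_one' := rfl
  map_mul' _ _ := rfl

theorem proj_surjective : Function.Surjective β.proj := fun g => ⟨⟨g, 1⟩, rfl⟩

/-- The kernel of the projection is the group `Z`. -/
def kerEquiv : β.proj.ker ≃* Z where
  toFun x := x.1.fib
  invFun z := ⟨⟨1, z⟩, rfl⟩
  left_inv x := Subtype.ext (Ext.ext x.2.symm rfl)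
  right_inv _ := rfl
  map_mul' x y := by
    show x.1.fib * y.1.fib * β.toFun x.1.base y.1.base = _
    rw [show x.1.base = 1 from x.2, β.map_one_left, mul_one]

theorem ker_le_center : β.proj.ker ≤ center β.Ext := by
  intro x hx
  rw [mem_center_iff]
  intro y
  have h : x.base = 1 := hx
  ext
  · simp [mul_def, h]
  · simp [mul_def, h, β.map_one_left, β.map_one_right, mul_comm]

theorem commutator_lift {g h : G} (hc : g * h = h * g) :
    ⁅(⟨g, 1⟩ : β.Ext), (⟨h, 1⟩ : β.Ext)⁆ = ⟨1, β.toFun g h * (β.toFun h g)⁻¹⟩ := by
  rw [commutatorElement_def, mul_inv_eq_iff_eq_mul, mul_inv_eq_iff_eq_mul]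
  ext
  · simp [mul_def, hc]
  · simp [mul_def, β.map_one_left]

/-- The extension is stem when the alternating part generates `Z`. -/
theorem isStemExtension (h : ∀ z : Z, ∃ g k : G, g * k = k * g ∧ β.toFun g k * (β.toFun k g)⁻¹ = z) :
    IsStemExtension β.proj := by
  refine ⟨β.proj_surjective, β.ker_le_center, fun x hx => ?_⟩
  obtain ⟨g, k, hgk, he⟩ := h x.fib
  rw [show x = ⁅(⟨g, 1⟩ : β.Ext), (⟨k, 1⟩ : β.Ext)⁆ by rw [β.commutator_lift hgk, he]; exact Ext.ext hx rfl]
  exact commutator_mem_commutator (mem_top _) (mem_top _)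

end Pairing

section TwoGen

variable {E : Type u} [Group E]

/-- A group generated by one element modulo the centre is abelian. -/
theorem commutator_eq_bot_of_one {x : E} (h : closure {x} ⊔ center E = ⊤) : commutator E = ⊥ := by
  rw [eq_bot_iff, _root_.commutator_def, commutator_le]
  intro a _ b _
  rw [mem_bot]
  obtain ⟨a', ha', z, hz, rfl⟩ := Subgroup.mem_sup_of_normal_right.mp (h ▸ mem_top a : a ∈ closure {x} ⊔ center E)
  obtain ⟨b', hb', t, ht, rfl⟩ := Subgroup.mem_sup_of_normal_right.mp (h ▸ mem_top b : b ∈ closure {x} ⊔ center E)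
  rw [mem_center_iff.mp hz a', mem_center_iff.mp ht b', commutatorElement_mul_central hz ht]
  obtain ⟨i, rfl⟩ := mem_closure_singleton.mp ha'
  obtain ⟨j, rfl⟩ := mem_closure_singleton.mp hb'
  exact commutatorElement_eq_one_iff_mul_comm.mpr (zpow_mul_comm x i j)

/-- A cyclic central subgroup of commutators for a group generated by two elements modulo the centre: if
`N` is normalised by both generators and contains their commutator, it contains the derived subgroup. -/
theorem commutator_le_of_two {x y : E} (h : closure {x, y} ⊔ center E = ⊤) (N : Subgroup E) [N.Normal]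
    (hxy : ⁅x, y⁆ ∈ N) : commutator E ≤ N := by
  let f := QuotientGroup.mk' N
  have key : ∀ a b : E, f a * f b = f b * f a := by
    have hgen : ∀ w ∈ ({x, y} : Set E), ∀ w' ∈ ({x, y} : Set E), f w * f w' = f w' * f w := by
      have h1 : f x * f y = f y * f x := by
        rw [← commutatorElement_eq_one_iff_mul_comm, ← map_commutatorElement]
        exact (QuotientGroup.eq_one_iff _).mpr hxy
      rintro w (rfl | rfl) w' (rfl | rfl)
      · rfl
      · exact h1
      · exact h1.symm
      · rfl
    intro a b
    have hS : ∀ a : E, ∀ w ∈ ({x, y} : Set E), f a * f w = f w * f a := by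
      intro a w hw
      have : closure {x, y} ⊔ center E ≤ (centralizer {f w}).comap f := by
        refine sup_le ?_ fun z hz => ?_
        · rw [closure_le]
          exact fun v hv => mem_centralizer_singleton_iff.mpr (hgen v hv w hw)
        · refine mem_centralizer_singleton_iff.mpr ?_
          rw [← map_mul, ← map_mul, mem_center_iff.mp hz w]
      exact mem_centralizer_singleton_iff.mp (this (h ▸ mem_top a))
    have : closure {x, y} ⊔ center E ≤ (centralizer {f a}).comap f := by
      refine sup_le ?_ fun z hz => ?_
      · rw [closure_le]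
        exact fun v hv => mem_centralizer_singleton_iff.mpr (hS a v hv).symm
      · refine mem_centralizer_singleton_iff.mpr ?_
        rw [← map_mul, ← map_mul, mem_center_iff.mp hz a]
    exact (mem_centralizer_singleton_iff.mp (this (h ▸ mem_top b))).symm
  rw [_root_.commutator_def, commutator_le]
  intro a _ b _
  rw [← QuotientGroup.eq_one_iff]
  show f ⁅a, b⁆ = 1
  rw [map_commutatorElement]
  exact commutatorElement_eq_one_iff_mul_comm.mpr (key a b)

/-- Lifts of generators of the quotient generate modulo a central kernel. -/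
theorem closure_sup_center {Q : Type v} [Group Q] {σ : E →* Q} (hσ : σ.ker ≤ center E) (S : Set E)
    (h : closure (σ '' S) = ⊤) : closure S ⊔ center E = ⊤ := by
  refine eq_top_iff.mpr fun e _ => ?_
  have : σ e ∈ (closure S).map σ := by rw [MonoidHom.map_closure, h]; exact mem_top _
  obtain ⟨c, hc, hce⟩ := this
  have h1 : c⁻¹ * e ∈ σ.ker := by show σ _ = 1; rw [map_mul, map_inv, hce, inv_mul_cancel]
  simpa using mul_mem (le_sup_left (b := center E) hc) (le_sup_right (a := closure S) (hσ h1))

end TwoGen

end Cfsg.Lib.Schur
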