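import Cfsg.Agent.Lib.Schur.Basic
import Mathlib.GroupTheory.IsPerfect

/-!
# Central extensions of perfect groups
-/

set_option autoImplicit false

namespace Cfsg.Lib.Schur

open Subgroup
open scoped commutatorElement

universe u v

section

variable {G : Type u} [Group G]

/-- In a perfect group the second centre is the centre. -/
theorem mem_center_of_forall_commutator (hG : Group.IsPerfect G) {g : G}
    (hc : ∀ x : G, ⁅g, x⁆ ∈ center G) : g ∈ center G := by
  let f : G →* G :=
    { toFun := fun x => ⁅g, x⁆
      map_one' := by simp [commutatorElement_def]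
      map_mul' := fun x y => by
        calc ⁅g, x * y⁆ = ⁅g, x⁆ * (x * ⁅g, y⁆ * x⁻¹) := by simp [commutatorElement_def, mul_assoc]
          _ = ⁅g, x⁆ * ⁅g, y⁆ := by rw [mem_center_iff.mp (hc y) x, mul_inv_cancel_right] }
  have hker' : commutator G ≤ f.ker := by
    rw [_root_.commutator_def, Subgroup.commutator_le]
    intro a _ b _
    show f ⁅a, b⁆ = 1
    rw [map_commutatorElement]
    exact commutatorElement_eq_one_iff_mul_comm.mpr (mem_center_iff.mp (hc b) (f a))
  rw [mem_center_iff]
  intro x
  exact (commutatorElement_eq_one_iff_mul_comm.mp (hker' (hG.commutator_eq_top ▸ mem_top x))).symm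

/-- Homomorphisms out of a perfect group which agree modulo the centre are equal. -/
theorem hom_eq_of_perfect (hG : Group.IsPerfect G) {E : Type v} [Group E] {f g : G →* E}
    (h : ∀ x, (f x)⁻¹ * g x ∈ center E) : f = g :=
  MonoidHom.ext fun x => eqOn_commutator h (hG.commutator_eq_top ▸ mem_top x)

end

variable {Q : Type u} [Group Q]

/-- The derived subgroup of the free central extension of a perfect group maps onto it. -/
theorem covMap_commutator_surjective (hQ : Group.IsPerfect Q) :
    Function.Surjective ((covMap (canon Q)).comp (commutator (Cov (canon Q))).subtype) := by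
  intro q
  have h : q ∈ (commutator (Cov (canon Q))).map (covMap (canon Q)) := by
    rw [_root_.commutator_def, Subgroup.map_commutator,
      map_top_of_surjective _ (covMap_surjective _ canon_surjective), ← _root_.commutator_def,
      hQ.commutator_eq_top]
    exact mem_top q
  obtain ⟨c, hc, rfl⟩ := h
  exact ⟨⟨c, hc⟩, rfl⟩

/-- The derived subgroup of the free central extension of a perfect group is perfect. -/
theorem isPerfect_commutator (hQ : Group.IsPerfect Q) : Group.IsPerfect (commutator (Cov (canon Q))) := by
  rw [Subgroup.isPerfect_iff]
  refine le_antisymm (Subgroup.commutator_le_self _) ?_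
  have h := commutator_le_map (ker_covMap_le_center (canon Q)) (commutator (Cov (canon Q))).subtype
    (fun e => by
      obtain ⟨x, hx⟩ := covMap_commutator_surjective hQ (covMap (canon Q) e)
      refine ⟨x, ?_⟩
      show covMap (canon Q) _ = 1
      rw [map_mul, map_inv, show covMap (canon Q) ((commutator (Cov (canon Q))).subtype x) = _ from hx,
        inv_mul_cancel])
  refine h.trans ?_
  rw [_root_.commutator_def (commutator (Cov (canon Q))), Subgroup.map_commutator, ← MonoidHom.range_eq_map,
    Subgroup.range_subtype]

/-- The derived subgroup of the free central extension of a finite group is finite. -/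
theorem finite_commutator_cov [Finite Q] : Finite (commutator (Cov (canon Q))) := by
  have := finiteIndex_center (canon Q)
  have : Finite (commutatorSet (Cov (canon Q))) := finite_commutatorSet_of_finiteIndex
  infer_instance

/-- A perfect group with trivial multiplier lifts along central extensions of itself. -/
theorem exists_section (hQ : Group.IsPerfect Q) [Finite Q] (hM : Subsingleton (M Q)) {E : Type v} [Group E]
    {σ : E →* Q} (hs : Function.Surjective σ) (hσ : σ.ker ≤ center E) : ∃ s : Q →* E, σ.comp s = MonoidHom.id Q := by
  obtain ⟨β, hβ⟩ := exists_lift (canon Q) σ hσ (MonoidHom.id Q) (fun q => hs q)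
  let f := (covMap (canon Q)).comp (commutator (Cov (canon Q))).subtype
  have hf : Function.Bijective f := by
    refine ⟨(injective_iff_map_eq_one f).mpr fun x hx => Subtype.ext ?_, covMap_commutator_surjective hQ⟩
    have : (⟨(x : Cov (canon Q)), hx, x.2⟩ : M Q) = 1 := Subsingleton.elim _ _
    exact congrArg (fun y : M Q => (y : Cov (canon Q))) this
  let e := MulEquiv.ofBijective f hf
  refine ⟨(β.comp (commutator (Cov (canon Q))).subtype).comp e.symm.toMonoidHom, MonoidHom.ext fun q => ?_⟩
  show σ (β (e.symm q : Cov (canon Q))) = q
  rw [show σ (β (e.symm q : Cov (canon Q))) = covMap (canon Q) (e.symm q : Cov (canon Q)) from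
    DFunLike.congr_fun hβ _]
  exact e.apply_symm_apply q

end Cfsg.Lib.Schur
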