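import Cfsg.Prelude.Def_KGroupFacts
import Mathlib.GroupTheory.FreeGroup.IsFreeGroup
import Mathlib.GroupTheory.FreeAbelianGroup
import Mathlib.GroupTheory.Schreier
import Mathlib.GroupTheory.Finiteness
import Mathlib.Algebra.Module.Projective
import Mathlib.RingTheory.PrincipalIdealDomain
import Mathlib.Algebra.EuclideanDomain.Int
import Mathlib.LinearAlgebra.FreeModule.PID
import Mathlib.Algebra.FreeAbelianGroup.Finsupp

/-!
# The Schur multiplier through a free presentation

For a surjection `π₀ : F →* Q` from a free group with kernel `R`, the group `Cov π₀ = F ⧸ ⁅R, F⁆` maps to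
every central extension of `Q`, and `mult π₀`, the intersection of its kernel with its derived subgroup, maps onto
the kernel of every stem extension. For finite `Q` it is finite and is the kernel of a stem extension, so it
is the Schur multiplier in the sense of `Cfsg.HasSchurMultiplier`.
-/

set_option autoImplicit false

namespace Cfsg.Lib.Schur

open Subgroup
open scoped commutatorElement

universe u v w

section General

variable {E : Type u} {H : Type v} [Group E] [Group H]

/-- Commutators are unchanged by central factors. -/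
theorem commutatorElement_mul_central {z t : E} (hz : z ∈ center E) (ht : t ∈ center E) (x y : E) :
    ⁅z * x, t * y⁆ = ⁅x, y⁆ := by
  have hz1 := mem_center_iff.mp hz
  have ht1 := mem_center_iff.mp ht
  have hzi := mem_center_iff.mp (inv_mem hz)
  have hti := mem_center_iff.mp (inv_mem ht)
  simp only [commutatorElement_def, mul_inv_rev]
  calc z * x * (t * y) * (x⁻¹ * z⁻¹) * (y⁻¹ * t⁻¹)
      = z * (x * t) * y * x⁻¹ * (z⁻¹ * y⁻¹) * t⁻¹ := by group
    _ = z * (t * x) * y * x⁻¹ * (y⁻¹ * z⁻¹) * t⁻¹ := by rw [ht1 x, ← hzi y⁻¹]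
    _ = (z * t) * (x * y * x⁻¹ * y⁻¹) * (z⁻¹ * t⁻¹) := by group
    _ = (x * y * x⁻¹ * y⁻¹) * ((z * t) * (z⁻¹ * t⁻¹)) := by
        rw [← mem_center_iff.mp (mul_mem hz ht), mul_assoc]
    _ = x * y * x⁻¹ * y⁻¹ := by rw [ht1 z]; group

/-- Two homomorphisms which agree modulo the centre agree on the derived subgroup. -/
theorem eqOn_commutator {β β' : H →* E} (h : ∀ x, (β x)⁻¹ * β' x ∈ center E) {c : H}
    (hc : c ∈ commutator H) : β c = β' c := by
  have hle : commutator H ≤ MonoidHom.eqLocus β β' := by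
    rw [_root_.commutator_def, commutator_le]
    intro x _ y _
    show β ⁅x, y⁆ = β' ⁅x, y⁆
    have e : ∀ w, β' w = ((β w)⁻¹ * β' w) * β w := fun w => by
      rw [← mem_center_iff.mp (h w) (β w), mul_inv_cancel_left]
    rw [map_commutatorElement, map_commutatorElement, e x, e y, commutatorElement_mul_central (h x) (h y)]
  exact hle hc

/-- A subgroup supplementing a central subgroup has the same derived subgroup. -/
theorem commutator_le_map {Z : Subgroup E} (hZ : Z ≤ center E) (β : H →* E)
    (hsup : ∀ e : E, ∃ x, (β x)⁻¹ * e ∈ Z) : commutator E ≤ (commutator H).map β := by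
  rw [_root_.commutator_def E, commutator_le]
  intro a _ b _
  obtain ⟨x, hx⟩ := hsup a
  obtain ⟨y, hy⟩ := hsup b
  have e : ∀ {w : E} {x : H}, (β x)⁻¹ * w ∈ Z → w = ((β x)⁻¹ * w) * β x := fun {w x} h => by
    rw [← mem_center_iff.mp (hZ h) (β x), mul_inv_cancel_left]
  rw [e hx, e hy, commutatorElement_mul_central (hZ hx) (hZ hy), ← map_commutatorElement]
  exact mem_map_of_mem β (commutator_mem_commutator (mem_top x) (mem_top y))

/-- A group whose centre has finite index has finitely many commutators. -/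
theorem finite_commutatorSet_of_finiteIndex [(center E).FiniteIndex] : Finite (commutatorSet E) := by
  let f : (E ⧸ center E) × (E ⧸ center E) → E := fun p => ⁅p.1.out, p.2.out⁆
  refine Set.Finite.to_subtype ((Set.finite_range f).subset ?_)
  rintro _ ⟨a, b, rfl⟩
  refine ⟨((a : E ⧸ center E), (b : E ⧸ center E)), ?_⟩
  obtain ⟨⟨z, hz⟩, hze⟩ := QuotientGroup.mk_out_eq_mul (center E) a
  obtain ⟨⟨t, ht⟩, hte⟩ := QuotientGroup.mk_out_eq_mul (center E) b
  show ⁅(QuotientGroup.mk a : E ⧸ center E).out, (QuotientGroup.mk b : E ⧸ center E).out⁆ = _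
  rw [hze, hte, mem_center_iff.mp hz a, mem_center_iff.mp ht b, commutatorElement_mul_central hz ht]

end General

variable {F : Type u} [Group F] [IsFreeGroup F] {Q : Type v} [Group Q] (π₀ : F →* Q)

/-- The relations `⁅R, F⁆`. -/
def rel : Subgroup F := ⁅π₀.ker, (⊤ : Subgroup F)⁆

instance rel_normal : (rel π₀).Normal := Subgroup.commutator_normal _ _

theorem rel_le_ker : rel π₀ ≤ π₀.ker := Subgroup.commutator_le_left _ _

/-- The free central extension `F ⧸ ⁅R, F⁆`. -/
abbrev Cov : Type u := F ⧸ rel π₀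

/-- The map of the free central extension to `Q`. -/
def covMap : Cov π₀ →* Q := QuotientGroup.lift (rel π₀) π₀ (rel_le_ker π₀)

theorem covMap_mk (x : F) : covMap π₀ (x : Cov π₀) = π₀ x := rfl

theorem covMap_surjective (hπ : Function.Surjective π₀) : Function.Surjective (covMap π₀) := fun q => by
  obtain ⟨x, rfl⟩ := hπ q
  exact ⟨(x : Cov π₀), rfl⟩

theorem ker_covMap_le_center : (covMap π₀).ker ≤ center (Cov π₀) := by
  intro c hc
  obtain ⟨r, rfl⟩ := QuotientGroup.mk_surjective c
  rw [mem_center_iff]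
  intro d
  obtain ⟨x, rfl⟩ := QuotientGroup.mk_surjective d
  refine (commutatorElement_eq_one_iff_mul_comm.mp ?_).symm
  show ⁅(r : Cov π₀), (x : Cov π₀)⁆ = 1
  have h : ((⁅r, x⁆ : F) : Cov π₀) = 1 := (QuotientGroup.eq_one_iff _).mpr (commutator_mem_commutator hc (mem_top x))
  simpa [commutatorElement_def] using h

/-- The multiplier of the presentation. -/
def mult : Subgroup (Cov π₀) := (covMap π₀).ker ⊓ commutator (Cov π₀)

theorem mult_le_center : mult π₀ ≤ center (Cov π₀) := inf_le_left.trans (ker_covMap_le_center π₀)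

instance mult_commGroup : CommGroup (mult π₀) :=
  { (inferInstance : Group (mult π₀)) with
    mul_comm := fun a b => Subtype.ext (mem_center_iff.mp (mult_le_center π₀ b.2) a) }

/-- Lifting a homomorphism through a central extension. -/
theorem exists_lift {E H : Type*} [Group E] [Group H] (σ : E →* H) (hσ : σ.ker ≤ center E) (γ : Q →* H)
    (hrange : ∀ q, γ q ∈ σ.range) : ∃ β : Cov π₀ →* E, σ.comp β = γ.comp (covMap π₀) := by
  choose g hg using fun i : IsFreeGroup.Generators F => hrange (π₀ (IsFreeGroup.of i))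
  let β₀ : F →* E := IsFreeGroup.lift g
  have hcomp : σ.comp β₀ = γ.comp π₀ := IsFreeGroup.ext_hom fun i => by
    show σ (IsFreeGroup.lift g (IsFreeGroup.of i)) = γ (π₀ (IsFreeGroup.of i))
    rw [IsFreeGroup.lift_of, hg]
  have hker : rel π₀ ≤ β₀.ker := by
    unfold rel
    rw [commutator_le]
    intro r hr x _
    have hc : β₀ r ∈ center E := hσ (by
      show σ (β₀ r) = 1
      rw [show σ (β₀ r) = γ (π₀ r) from DFunLike.congr_fun hcomp r, show π₀ r = 1 from hr, map_one])
    show β₀ ⁅r, x⁆ = 1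
    rw [map_commutatorElement]
    exact commutatorElement_eq_one_iff_mul_comm.mpr (mem_center_iff.mp hc (β₀ x)).symm
  refine ⟨QuotientGroup.lift (rel π₀) β₀ hker, MonoidHom.ext fun c => ?_⟩
  obtain ⟨x, rfl⟩ := QuotientGroup.mk_surjective c
  exact DFunLike.congr_fun hcomp x

/-- Two lifts through a central extension agree on the derived subgroup. -/
theorem lift_eqOn {E H : Type*} [Group E] [Group H] {σ : E →* H} (hσ : σ.ker ≤ center E)
    {β β' : Cov π₀ →* E} (h : σ.comp β = σ.comp β') {c : Cov π₀} (hc : c ∈ commutator (Cov π₀)) : β c = β' c :=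
  eqOn_commutator (fun x => hσ (by
    show σ _ = 1
    rw [map_mul, map_inv, show σ (β x) = σ (β' x) from DFunLike.congr_fun h x, inv_mul_cancel])) hc

/-- The derived subgroup of a central extension of `Q` is the image of that of the free one. -/
theorem commutator_eq_map {E : Type*} [Group E] {σ : E →* Q} (hσ : σ.ker ≤ center E)
    (hπ : Function.Surjective π₀) {β : Cov π₀ →* E} (hβ : σ.comp β = covMap π₀) :
    commutator E = (commutator (Cov π₀)).map β := by
  refine le_antisymm (commutator_le_map hσ β fun e => ?_) ?_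
  · obtain ⟨x, hx⟩ := covMap_surjective π₀ hπ (σ e)
    refine ⟨x, ?_⟩
    show σ _ = 1
    rw [map_mul, map_inv, show σ (β x) = covMap π₀ x from DFunLike.congr_fun hβ x, hx, inv_mul_cancel]
  · rw [_root_.commutator_def, _root_.commutator_def, Subgroup.map_commutator]
    exact Subgroup.commutator_mono le_top le_top

/-- The multiplier maps onto the part of the kernel inside the derived subgroup. -/
theorem map_mult {E : Type*} [Group E] {σ : E →* Q} (hσ : σ.ker ≤ center E)
    (hπ : Function.Surjective π₀) {β : Cov π₀ →* E} (hβ : σ.comp β = covMap π₀) :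
    (mult π₀).map β = σ.ker ⊓ commutator E := by
  rw [commutator_eq_map π₀ hσ hπ hβ]
  ext z
  constructor
  · rintro ⟨c, ⟨hck, hcc⟩, rfl⟩
    exact ⟨(DFunLike.congr_fun hβ c).trans hck, c, hcc, rfl⟩
  · rintro ⟨hz, c, hcc, rfl⟩
    exact ⟨c, ⟨(DFunLike.congr_fun hβ c).symm.trans hz, hcc⟩, rfl⟩

/-- A lift to a stem extension is surjective. -/
theorem lift_surjective {E : Type*} [Group E] {σ : E →* Q} (hσ : IsStemExtension σ)
    (hπ : Function.Surjective π₀) {β : Cov π₀ →* E} (hβ : σ.comp β = covMap π₀) : Function.Surjective β := by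
  intro e
  obtain ⟨x, hx⟩ := covMap_surjective π₀ hπ (σ e)
  have h1 : (β x)⁻¹ * e ∈ σ.ker := by
    show σ _ = 1
    rw [map_mul, map_inv, show σ (β x) = covMap π₀ x from DFunLike.congr_fun hβ x, hx, inv_mul_cancel]
  have h2 := hσ.2.2 h1
  rw [commutator_eq_map π₀ hσ.2.1 hπ hβ] at h2
  obtain ⟨c, -, hc⟩ := h2
  exact ⟨x * c, by rw [map_mul, hc, mul_inv_cancel_left]⟩

/-- The multiplier maps onto the kernel of a stem extension. -/
theorem exists_mult_surjection {E : Type*} [Group E] {σ : E →* Q} (hσ : IsStemExtension σ)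
    (hπ : Function.Surjective π₀) : ∃ ψ : mult π₀ →* σ.ker, Function.Surjective ψ := by
  obtain ⟨β, hβ⟩ := exists_lift π₀ σ hσ.2.1 (MonoidHom.id Q) (fun q => hσ.1 q)
  have hβ' : σ.comp β = covMap π₀ := hβ
  have hmap := map_mult π₀ hσ.2.1 hπ hβ'
  rw [inf_eq_left.mpr hσ.2.2] at hmap
  refine ⟨(MulEquiv.subgroupCongr hmap).toMonoidHom.comp (β.subgroupMap (mult π₀)), ?_⟩
  exact (MulEquiv.subgroupCongr hmap).surjective.comp (β.subgroupMap_surjective (mult π₀))

/-- The centre of the free central extension has finite index. -/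
theorem finiteIndex_center [Finite Q] : (center (Cov π₀)).FiniteIndex := by
  have : (covMap π₀).ker.FiniteIndex := inferInstance
  exact Subgroup.finiteIndex_of_le (ker_covMap_le_center π₀)

instance finite_mult [Finite Q] : Finite (mult π₀) := by
  have := finiteIndex_center π₀
  have : Finite (commutatorSet (Cov π₀)) := finite_commutatorSet_of_finiteIndex
  exact Finite.of_injective (fun x => (⟨x.1, x.2.2⟩ : commutator (Cov π₀)))
    fun a b h => Subtype.ext (congrArg (fun y : commutator (Cov π₀) => (y : Cov π₀)) h)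

section Iso

variable {F' : Type w} [Group F'] [IsFreeGroup F'] (π₁ : F' →* Q)

/-- The multiplier does not depend on the presentation. -/
theorem nonempty_mult_equiv (h₀ : Function.Surjective π₀) (h₁ : Function.Surjective π₁) :
    Nonempty (mult π₀ ≃* mult π₁) := by
  obtain ⟨β, hβ⟩ := exists_lift π₀ (covMap π₁) (ker_covMap_le_center π₁) (MonoidHom.id Q)
    (fun q => covMap_surjective π₁ h₁ q)
  obtain ⟨β', hβ'⟩ := exists_lift π₁ (covMap π₀) (ker_covMap_le_center π₀) (MonoidHom.id Q)
    (fun q => covMap_surjective π₀ h₀ q)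
  have e : (covMap π₁).comp β = covMap π₀ := hβ
  have e' : (covMap π₀).comp β' = covMap π₁ := hβ'
  have hm : ∀ c ∈ mult π₀, β c ∈ mult π₁ := fun c hc => by
    have h := mem_map_of_mem β hc
    rw [map_mult π₀ (ker_covMap_le_center π₁) h₀ e] at h
    exact h
  have hm' : ∀ c ∈ mult π₁, β' c ∈ mult π₀ := fun c hc => by
    have h := mem_map_of_mem β' hc
    rw [map_mult π₁ (ker_covMap_le_center π₀) h₁ e'] at h
    exact h
  refine ⟨{ toFun := fun c => ⟨β c, hm c c.2⟩
            invFun := fun c => ⟨β' c, hm' c c.2⟩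
            left_inv := fun c => Subtype.ext ?_
            right_inv := fun c => Subtype.ext ?_
            map_mul' := fun a b => Subtype.ext (map_mul β (a : Cov π₀) (b : Cov π₀)) }⟩
  · refine lift_eqOn π₀ (ker_covMap_le_center π₀) (β := β'.comp β) (β' := MonoidHom.id _) ?_ c.2.2
    rw [← MonoidHom.comp_assoc, e', e]; rfl
  · refine lift_eqOn π₁ (ker_covMap_le_center π₁) (β := β.comp β') (β' := MonoidHom.id _) ?_ c.2.2
    rw [← MonoidHom.comp_assoc, e, e']; rfl

end Iso

/-! ### Covering groups -/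

section Cover

variable {X : Type u} (π : FreeGroup X →* Q)

/-- The free central extension has torsion free abelianisation. -/
theorem mem_commutator_of_pow_mem {c : Cov π} {k : ℕ} (hk : k ≠ 0) (h : c ^ k ∈ commutator (Cov π)) :
    c ∈ commutator (Cov π) := by
  obtain ⟨x, rfl⟩ := QuotientGroup.mk_surjective c
  have hmap : commutator (Cov π) = (commutator (FreeGroup X)).map (QuotientGroup.mk' (rel π)) := by
    rw [_root_.commutator_def, _root_.commutator_def, Subgroup.map_commutator,
      map_top_of_surjective _ (QuotientGroup.mk'_surjective _)]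
  rw [hmap] at h ⊢
  obtain ⟨y, hy, hyx⟩ := h
  have h2 : y⁻¹ * x ^ k ∈ rel π := by
    rw [← QuotientGroup.eq]; exact hyx
  have h3 : x ^ k ∈ commutator (FreeGroup X) := by
    have h4 : rel π ≤ commutator (FreeGroup X) := Subgroup.commutator_mono le_top le_rfl
    simpa using mul_mem hy (h4 h2)
  refine ⟨x, ?_, rfl⟩
  -- pass to the free abelian group
  let e : Additive (Abelianization (FreeGroup X)) ≃+ (X →₀ ℤ) := FreeAbelianGroup.equivFinsupp X
  have h5 : k • e (Additive.ofMul (Abelianization.of x)) = 0 := by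
    rw [← map_nsmul, ← ofMul_pow, ← map_pow,
      show Abelianization.of (x ^ k) = 1 from (QuotientGroup.eq_one_iff _).mpr h3, ofMul_one, map_zero]
  have h6 : Abelianization.of x = 1 := by
    rcases smul_eq_zero.mp h5 with h | h
    · exact absurd h hk
    · rwa [EmbeddingLike.map_eq_zero_iff, ofMul_eq_zero] at h
  exact (QuotientGroup.eq_one_iff x).mp h6

variable [Finite X] [Finite Q]

/-- A central kernel, as an abelian group. -/
instance ker_commGroup : CommGroup (covMap π).ker :=
  { (inferInstance : Group (covMap π).ker) with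
    mul_comm := fun a b => Subtype.ext (mem_center_iff.mp (ker_covMap_le_center π b.2) a) }

/-- A complement of the multiplier in the kernel, inside the kernel of a given map. -/
theorem exists_complement {D : Type*} [Group D] (φ : Cov π →* D)
    (hφ : ∀ c ∈ (covMap π).ker, ∃ m ∈ mult π, φ m = φ c) :
    ∃ S : Subgroup (Cov π), S ≤ (covMap π).ker ∧ S ≤ φ.ker ∧ S ⊓ mult π = ⊥ ∧
      ∀ c ∈ (covMap π).ker, ∃ m ∈ mult π, ∃ s ∈ S, c = m * s := by
  set A := (covMap π).ker
  let K : Subgroup A := φ.ker.subgroupOf A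
  let M : Subgroup A := (mult π).subgroupOf A
  have : Group.FG (Cov π) := QuotientGroup.fg (rel π)
  have : (covMap π).ker.FiniteIndex := inferInstance
  have hAfg : Group.FG A := Subgroup.fg_of_index_ne_zero _
  have : Group.FG (A ⧸ M) := QuotientGroup.fg M
  let f : K →* A ⧸ M := (QuotientGroup.mk' M).comp K.subtype
  have hf : Function.Surjective f := by
    intro x
    obtain ⟨a, rfl⟩ := QuotientGroup.mk'_surjective M x
    obtain ⟨m, hm, hme⟩ := hφ a a.2
    let m' : A := ⟨m, hm.1⟩
    refine ⟨⟨m'⁻¹ * a, ?_⟩, ?_⟩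
    · show φ ((m' : Cov π)⁻¹ * a) = 1
      rw [map_mul, map_inv, hme, inv_mul_cancel]
    · show QuotientGroup.mk' M (m'⁻¹ * a) = QuotientGroup.mk' M a
      rw [map_mul, map_inv, show QuotientGroup.mk' M m' = 1 from (QuotientGroup.eq_one_iff m').mpr hm,
        inv_one, one_mul]
  have : Module.Finite ℤ (Additive (A ⧸ M)) :=
    Module.Finite.iff_addGroup_fg.mpr (GroupFG.iff_add_fg.mp inferInstance)
  have : Module.IsTorsionFree ℤ (Additive (A ⧸ M)) := by
    refine .of_smul_eq_zero fun n x hnx => ?_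
    by_contra hne
    push Not at hne
    obtain ⟨a, ha⟩ := QuotientGroup.mk_surjective (Additive.toMul x)
    have h1 : (Additive.toMul x) ^ n.natAbs = 1 := by
      have h2 : (Additive.toMul x) ^ n = 1 := congrArg Additive.toMul hnx
      rcases Int.natAbs_eq n with e | e
      · rw [e, zpow_natCast] at h2; exact h2
      · rw [e, zpow_neg, zpow_natCast, inv_eq_one] at h2; exact h2
    rw [← ha, ← QuotientGroup.mk_pow, QuotientGroup.eq_one_iff] at h1
    have h3 : (a : Cov π) ∈ mult π := ⟨a.2,
      mem_commutator_of_pow_mem π (fun e => hne.1 (Int.natAbs_eq_zero.mp e)) (show (a : Cov π) ^ n.natAbs ∈ _ from h1.2)⟩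
    exact hne.2 (show Additive.toMul x = 1 from ha ▸ (QuotientGroup.eq_one_iff a).mpr h3)
  have : Module.Free ℤ (Additive (A ⧸ M)) := Module.free_of_finite_type_torsion_free'
  obtain ⟨s, hs⟩ := Module.projective_lifting_property (R := ℤ) f.toAdditive.toIntLinearMap
    (LinearMap.id : Additive (A ⧸ M) →ₗ[ℤ] Additive (A ⧸ M)) (fun x => hf x)
  let t : A ⧸ M →* A := K.subtype.comp (AddMonoidHom.toMultiplicative.symm.symm s.toAddMonoidHom)
  have ht : ∀ x : A ⧸ M, QuotientGroup.mk' M (t x) = x := fun x =>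
    congrArg Additive.toMul (LinearMap.congr_fun hs (Additive.ofMul x))
  refine ⟨t.range.map A.subtype, map_subtype_le _, ?_, ?_, ?_⟩
  · rintro _ ⟨_, ⟨x, rfl⟩, rfl⟩
    exact (AddMonoidHom.toMultiplicative.symm.symm s.toAddMonoidHom x : K).2
  · rw [eq_bot_iff]
    rintro _ ⟨⟨_, ⟨x, rfl⟩, rfl⟩, hm⟩
    have : x = 1 := (ht x).symm.trans ((QuotientGroup.eq_one_iff (t x)).mpr hm)
    rw [mem_bot, this, map_one]; rfl
  · intro c hc
    set a : A := ⟨c, hc⟩
    refine ⟨(a * (t (QuotientGroup.mk' M a))⁻¹ : A), ?_, (t (QuotientGroup.mk' M a) : Cov π),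
      ⟨_, ⟨_, rfl⟩, rfl⟩, ?_⟩
    · show (a * (t (QuotientGroup.mk' M a))⁻¹ : A) ∈ M
      rw [← QuotientGroup.eq_one_iff]
      show QuotientGroup.mk' M _ = 1
      rw [map_mul, map_inv, ht, mul_inv_cancel]
    · rw [Subgroup.coe_mul, Subgroup.coe_inv, inv_mul_cancel_right]

theorem normal_of_le_ker {S : Subgroup (Cov π)} (hS : S ≤ (covMap π).ker) : S.Normal :=
  ⟨fun s hs g => by rwa [mem_center_iff.mp (ker_covMap_le_center π (hS hs)) g, mul_inv_cancel_right]⟩

/-- Every finite stem extension is a quotient, over `Q`, of a stem extension with kernel the multiplier. -/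
theorem exists_cover_over (hπ : Function.Surjective π) {E : Type*} [Group E] {τ : E →* Q}
    (hτ : IsStemExtension τ) :
    ∃ (Γ : Type u) (_ : Group Γ) (_ : Finite Γ) (σ : Γ →* Q), IsStemExtension σ ∧
      Nonempty (σ.ker ≃* mult π) ∧ ∃ β : Γ →* E, Function.Surjective β ∧ τ.comp β = σ := by
  obtain ⟨φ, hφ'⟩ := exists_lift π τ hτ.2.1 (MonoidHom.id Q) (fun q => hτ.1 q)
  have hφ : τ.comp φ = covMap π := hφ'
  obtain ⟨S, hSk, hSφ, hSM, hS⟩ := exists_complement π φ fun c hc => by
    have h : φ c ∈ τ.ker ⊓ commutator E := by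
      have h1 : φ c ∈ τ.ker := (DFunLike.congr_fun hφ c).trans hc
      exact ⟨h1, hτ.2.2 h1⟩
    rw [← map_mult π hτ.2.1 hπ hφ] at h
    exact h
  have := normal_of_le_ker π hSk
  let σ : Cov π ⧸ S →* Q := QuotientGroup.lift S (covMap π) hSk
  have hσs : Function.Surjective σ := fun q => by
    obtain ⟨c, hc⟩ := covMap_surjective π hπ q
    exact ⟨(c : Cov π ⧸ S), hc⟩
  let q : mult π →* σ.ker := ((QuotientGroup.mk' S).comp (mult π).subtype).codRestrict σ.ker fun m => m.2.1
  have hq : Function.Bijective q := by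
    constructor
    · rw [injective_iff_map_eq_one]
      intro m hm
      have h1 : (m : Cov π) ∈ S ⊓ mult π := ⟨(QuotientGroup.eq_one_iff (m : Cov π)).mp (congrArg Subtype.val hm), m.2⟩
      rw [hSM, mem_bot] at h1
      exact Subtype.ext h1
    · rintro ⟨x, hx⟩
      obtain ⟨c, rfl⟩ := QuotientGroup.mk'_surjective S x
      obtain ⟨m, hm, s, hs, rfl⟩ := hS c hx
      refine ⟨⟨m, hm⟩, Subtype.ext ?_⟩
      show (m : Cov π ⧸ S) = ((m * s : Cov π) : Cov π ⧸ S)
      rw [QuotientGroup.mk_mul, (QuotientGroup.eq_one_iff s).mpr hs, mul_one]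
  have hstem : IsStemExtension σ := by
    refine ⟨hσs, ?_, ?_⟩
    · intro x hx
      obtain ⟨⟨m, hm⟩, hme⟩ := hq.2 ⟨x, hx⟩
      have hxe : ((m : Cov π) : Cov π ⧸ S) = x := congrArg Subtype.val hme
      rw [mem_center_iff]
      intro y
      obtain ⟨d, rfl⟩ := QuotientGroup.mk_surjective y
      rw [← hxe, ← QuotientGroup.mk_mul, ← QuotientGroup.mk_mul, mem_center_iff.mp (mult_le_center π hm) d]
    · intro x hx
      obtain ⟨⟨m, hm⟩, hme⟩ := hq.2 ⟨x, hx⟩
      have hxe : ((m : Cov π) : Cov π ⧸ S) = x := congrArg Subtype.val hme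
      rw [← hxe, _root_.commutator_def, ← map_top_of_surjective (QuotientGroup.mk' S) (QuotientGroup.mk'_surjective S),
        ← Subgroup.map_commutator]
      exact mem_map_of_mem _ hm.2
  have : Finite (Cov π ⧸ S) := by
    have : Finite σ.ker := Finite.of_surjective q hq.2
    have : Finite ((Cov π ⧸ S) ⧸ σ.ker) := Finite.of_equiv Q (QuotientGroup.quotientKerEquivOfSurjective σ hσs).symm.toEquiv
    exact Finite.of_subgroup_quotient σ.ker
  refine ⟨Cov π ⧸ S, inferInstance, this, σ, hstem, ⟨(MulEquiv.ofBijective q hq).symm⟩,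
    QuotientGroup.lift S φ hSφ, ?_, ?_⟩
  · intro e
    obtain ⟨c, hc⟩ := lift_surjective π hτ hπ hφ e
    exact ⟨(c : Cov π ⧸ S), hc⟩
  · refine MonoidHom.ext fun x => ?_
    obtain ⟨c, rfl⟩ := QuotientGroup.mk_surjective x
    exact DFunLike.congr_fun hφ c

theorem isStemExtension_id : IsStemExtension (MonoidHom.id Q) :=
  ⟨Function.surjective_id, by simp, by simp⟩

/-- Existence of a covering group. -/
theorem exists_cover (hπ : Function.Surjective π) :
    ∃ (Γ : Type u) (_ : Group Γ) (_ : Finite Γ) (σ : Γ →* Q), IsStemExtension σ ∧ Nonempty (σ.ker ≃* mult π) := by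
  obtain ⟨Γ, i1, i2, σ, h1, h2, -⟩ := exists_cover_over π hπ isStemExtension_id
  exact ⟨Γ, i1, i2, σ, h1, h2⟩

end Cover

/-! ### The canonical presentation of a finite group -/

variable (Q) in
/-- The presentation on all elements. -/
def canon : FreeGroup Q →* Q := FreeGroup.lift id

theorem canon_surjective {Q : Type v} [Group Q] : Function.Surjective (canon Q) :=
  fun q => ⟨FreeGroup.of q, FreeGroup.lift_apply_of⟩

variable (Q) in
/-- The Schur multiplier of `Q`. -/
abbrev M : Type v := mult (canon Q)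

theorem hasSchurMultiplier {Q : Type v} [Group Q] [Finite Q] : HasSchurMultiplier Q (M Q) := by
  refine ⟨exists_cover (canon Q) canon_surjective, fun Γ _ _ σ hσ => ?_⟩
  exact exists_mult_surjection (canon Q) hσ canon_surjective

theorem nonempty_equiv_of_has {Q : Type v} [Group Q] [Finite Q] {A : Type w} [CommGroup A]
    (hA : HasSchurMultiplier Q A) : Nonempty (A ≃* M Q) := by
  obtain ⟨⟨Γ, _, _, σ, hσ, ⟨e⟩⟩, hmax⟩ := hA
  have : Finite A := Finite.of_equiv _ e.toEquiv
  obtain ⟨ψ, hψ⟩ := exists_mult_surjection (canon Q) hσ canon_surjective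
  obtain ⟨Γ', _, _, σ', hσ', ⟨e'⟩⟩ := exists_cover (canon Q) canon_surjective
  obtain ⟨φ, hφ⟩ := hmax Γ' σ' hσ'
  have h1 : Nat.card A ≤ Nat.card (M Q) := Nat.card_le_card_of_surjective _ (e.surjective.comp hψ)
  have hs : Function.Surjective (e'.toMonoidHom.comp φ) := e'.surjective.comp hφ
  exact ⟨MulEquiv.ofBijective _ ((Nat.bijective_iff_surjective_and_card _).mpr
    ⟨hs, le_antisymm h1 (Nat.card_le_card_of_surjective _ hs)⟩)⟩

theorem finite_of_has {Q : Type v} [Group Q] [Finite Q] {A : Type w} [CommGroup A]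
    (hA : HasSchurMultiplier Q A) : Finite A := by
  obtain ⟨e⟩ := nonempty_equiv_of_has hA
  exact Finite.of_equiv _ e.symm.toEquiv

/-- Transport along an isomorphism. -/
theorem has_of_equiv {Q : Type v} [Group Q] {A : Type w} [CommGroup A] {B : Type*} [CommGroup B] (e : A ≃* B)
    (hA : HasSchurMultiplier Q A) : HasSchurMultiplier Q B := by
  obtain ⟨⟨Γ, i1, i2, σ, hσ, ⟨e'⟩⟩, hmax⟩ := hA
  exact ⟨⟨Γ, i1, i2, σ, hσ, ⟨e'.trans e⟩⟩, fun Δ _ _ τ hτ => by
    obtain ⟨φ, hφ⟩ := hmax Δ τ hτ
    exact ⟨φ.comp e.symm.toMonoidHom, hφ.comp e.symm.surjective⟩⟩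

theorem has_iff {Q : Type v} [Group Q] [Finite Q] {A : Type w} [CommGroup A] :
    HasSchurMultiplier Q A ↔ Nonempty (A ≃* M Q) :=
  ⟨nonempty_equiv_of_has, fun ⟨e⟩ => has_of_equiv e.symm hasSchurMultiplier⟩

theorem hasCyclic_one_iff {Q : Type v} [Group Q] [Finite Q] :
    HasCyclicSchurMultiplier Q 1 ↔ Subsingleton (M Q) := by
  refine ⟨fun h => ?_, fun h => has_iff.mpr ?_⟩
  · obtain ⟨e⟩ := nonempty_equiv_of_has h
    exact e.symm.injective.subsingleton
  · have h2 : Subsingleton (Multiplicative (ZMod 1)) := inferInstance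
    exact ⟨{ toFun := fun _ => 1, invFun := fun _ => 1, left_inv := fun x => Subsingleton.elim _ _,
             right_inv := fun x => Subsingleton.elim _ _, map_mul' := fun _ _ => (mul_one 1).symm }⟩

end Cfsg.Lib.Schur
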