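import Cfsg.Agent.Lib.Schur.CoverBound

/-!
# The multiplier of a finite group does not depend on the universe
-/

set_option autoImplicit false

namespace Cfsg.Lib.Schur

universe u

/-- The multiplier of a finite group is the same in every universe. -/
theorem hasSchur_of_equiv {G : Type} [Group G] {H : Type u} [Group H] (e : G ≃* H) {A : Type} [CommGroup A]
    (h : HasSchurMultiplier G A) : HasSchurMultiplier H A := by
  obtain ⟨⟨Γ, _, _, σ, ⟨h1, h2, h3⟩, ⟨i⟩⟩, hu⟩ := h
  refine ⟨?_, fun Δ _ _ τ hτ => ?_⟩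
  · let eu : ULift.{u} Γ ≃* Γ := MulEquiv.ulift
    let σ' : ULift.{u} Γ →* H := e.toMonoidHom.comp (σ.comp eu.toMonoidHom)
    have hk : σ'.ker = σ.ker.map eu.symm.toMonoidHom := by
      ext x
      simp [σ', MonoidHom.mem_ker, Subgroup.mem_map_equiv]
    refine ⟨ULift.{u} Γ, inferInstance, inferInstance, σ',
      ⟨e.surjective.comp (h1.comp eu.surjective), ?_, ?_⟩,
      ⟨((MulEquiv.subgroupCongr hk).trans (eu.symm.subgroupMap σ.ker).symm).trans i⟩⟩
    · rw [hk]
      rintro _ ⟨x, hx, rfl⟩
      refine Subgroup.mem_center_iff.2 fun y => ?_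
      apply eu.injective
      simpa using Subgroup.mem_center_iff.1 (h2 hx) (eu y)
    · rw [hk, commutator_def, ← Subgroup.map_top_of_surjective eu.symm.toMonoidHom eu.symm.surjective,
        ← Subgroup.map_commutator, ← commutator_def]
      exact Subgroup.map_mono h3
  · haveI : Small.{0} Δ := inferInstance
    let ed : Shrink.{0} Δ ≃* Δ := Shrink.mulEquiv
    haveI : Finite (Shrink.{0} Δ) := Finite.of_equiv Δ ed.symm.toEquiv
    let τ' : Shrink.{0} Δ →* G := e.symm.toMonoidHom.comp (τ.comp ed.toMonoidHom)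
    have hk : τ'.ker = τ.ker.map ed.symm.toMonoidHom := by
      ext x
      simp [τ', MonoidHom.mem_ker, Subgroup.mem_map_equiv]
    obtain ⟨π, hπ⟩ := hu (Shrink.{0} Δ) τ' ⟨e.symm.surjective.comp (hτ.1.comp ed.surjective), by
        rw [hk]
        rintro _ ⟨x, hx, rfl⟩
        refine Subgroup.mem_center_iff.2 fun y => ?_
        apply ed.injective
        simpa using Subgroup.mem_center_iff.1 (hτ.2.1 hx) (ed y), by
        rw [hk, commutator_def, ← Subgroup.map_top_of_surjective ed.symm.toMonoidHom ed.symm.surjective,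
          ← Subgroup.map_commutator, ← commutator_def]
        exact Subgroup.map_mono hτ.2.2⟩
    let g : τ'.ker ≃* τ.ker := (MulEquiv.subgroupCongr hk).trans (ed.symm.subgroupMap τ.ker).symm
    exact ⟨g.toMonoidHom.comp π, g.surjective.comp hπ⟩

end Cfsg.Lib.Schur
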