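import Cfsg.Agent.Lib.Concrete.StemTools
import Cfsg.Agent.Lib.Schur.Basic

/-!
# The multiplier of a perfect group from a cover without stem extensions
-/

set_option autoImplicit false

namespace Cfsg.Lib.Schur

open Subgroup Cfsg.Lib.Concrete

/-- A stem extension of a perfect group is perfect. -/
theorem commutator_eq_top_of_stem {G Γ₀ : Type} [Group G] [Group Γ₀] (hG : commutator G = ⊤) (σ₀ : Γ₀ →* G)
    (hσ₀ : IsStemExtension σ₀) : commutator Γ₀ = ⊤ := by
  refine top_le_iff.1 fun x _ => ?_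
  have hx : σ₀ x ∈ (commutator Γ₀).map σ₀ := by
    rw [_root_.commutator_def, Subgroup.map_commutator, map_top_of_surjective _ hσ₀.1, ← _root_.commutator_def, hG]
    exact mem_top _
  obtain ⟨y, hy, hyx⟩ := hx
  have hk : y⁻¹ * x ∈ σ₀.ker := by rw [MonoidHom.mem_ker, map_mul, map_inv, hyx, inv_mul_cancel]
  rw [show x = y * (y⁻¹ * x) by group]
  exact mul_mem hy (hσ₀.2.2 hk)

/-- A cover without stem extensions of prime degree gives the multiplier. -/
theorem hasSchurMultiplier_of_cover {G Γ₀ : Type} [Group G] [Group Γ₀] [Finite Γ₀] (hG : commutator G = ⊤)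
    {σ₀ : Γ₀ →* G} (hσ₀ : IsStemExtension σ₀) (hno : ∀ p : ℕ, p.Prime → NoStem p Γ₀) {A : Type} [CommGroup A]
    (e : σ₀.ker ≃* A) : HasSchurMultiplier G A := by
  refine ⟨⟨Γ₀, inferInstance, inferInstance, σ₀, hσ₀, ⟨e⟩⟩, ?_⟩
  intro Γ _ _ σ hσ
  let P : Subgroup (Γ₀ × Γ) := (σ₀.comp (MonoidHom.fst Γ₀ Γ)).eqLocus (σ.comp (MonoidHom.snd Γ₀ Γ))
  haveI : Finite P := inferInstance
  let fp : P →* Γ₀ := (MonoidHom.fst Γ₀ Γ).comp P.subtype
  have hfps : Function.Surjective fp := fun c => by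
    obtain ⟨γ, hγ⟩ := hσ.1 (σ₀ c)
    exact ⟨⟨(c, γ), hγ.symm⟩, rfl⟩
  have hfpk : fp.ker ≤ center P := by
    rintro ⟨⟨c, γ⟩, hmem⟩ hx
    obtain rfl : c = 1 := MonoidHom.mem_ker.1 hx
    have hγ : γ ∈ σ.ker := by
      have : σ₀ 1 = σ γ := hmem
      rw [map_one] at this
      exact this.symm
    refine mem_center_iff.2 fun y => Subtype.ext (Prod.ext ?_ ?_)
    · simp
    · exact mem_center_iff.1 (hσ.2.1 hγ) _
  let D : Subgroup P := commutator P
  let π : D →* Γ₀ := fp.comp D.subtype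
  have hmap : D.map fp = ⊤ := by
    show (commutator P).map fp = ⊤
    rw [_root_.commutator_def, Subgroup.map_commutator, map_top_of_surjective _ hfps, ← _root_.commutator_def,
      commutator_eq_top_of_stem hG σ₀ hσ₀]
  have hπs : Function.Surjective π := fun c => by
    obtain ⟨x, hx, rfl⟩ := (hmap.symm ▸ mem_top c : c ∈ D.map fp)
    exact ⟨⟨x, hx⟩, rfl⟩
  have hπk : π.ker ≤ center D := fun x hx => mem_center_iff.2 fun y =>
    Subtype.ext (mem_center_iff.1 (hfpk (show (x : P) ∈ fp.ker from hx)) y)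
  have hDperf : commutator D = ⊤ := by
    have hle := commutator_le_map hfpk D.subtype fun x => by
      obtain ⟨d, hd⟩ := hπs (fp x)
      exact ⟨d, by rw [MonoidHom.mem_ker, map_mul, map_inv]; exact inv_mul_eq_one.2 hd⟩
    refine top_le_iff.1 fun x _ => ?_
    obtain ⟨y, hy, hyx⟩ := hle x.2
    exact (Subtype.ext hyx : y = x) ▸ hy
  have hπstem : IsStemExtension π := ⟨hπs, hπk, by rw [hDperf]; exact le_top⟩
  obtain ⟨τ, hτ⟩ := (hasTrivialMultiplier hno).2 D π hπstem
  have hinj : Function.Injective π := (injective_iff_map_eq_one π).2 fun x hx => by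
    obtain ⟨a, ha⟩ := hτ ⟨x, hx⟩
    have hsub : a = 1 := Subsingleton.elim _ _
    rw [hsub, map_one] at ha
    exact (congrArg Subtype.val ha).symm
  let f : Γ₀ →* Γ := ((MonoidHom.snd Γ₀ Γ).comp (P.subtype.comp D.subtype)).comp
    (MulEquiv.ofBijective π ⟨hinj, hπs⟩).symm.toMonoidHom
  have hσf : ∀ c, σ (f c) = σ₀ c := fun c => by
    set d := (MulEquiv.ofBijective π ⟨hinj, hπs⟩).symm c with hd
    have h1 : σ₀ (π d) = σ (f c) := d.1.2
    rw [← h1, show π d = c from (MulEquiv.ofBijective π ⟨hinj, hπs⟩).apply_symm_apply c]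
  have hker : σ.ker ≤ f.range := by
    refine le_trans hσ.2.2 (commutator_le_of_abelian_quot hσ.2.1 (top_le_iff.1 fun x _ => ?_))
    obtain ⟨c, hc⟩ := hσ₀.1 (σ x)
    rw [show x = f c * ((f c)⁻¹ * x) by group]
    exact mul_mem (mem_sup_left ⟨c, rfl⟩) (mem_sup_right (by
      rw [MonoidHom.mem_ker, map_mul, map_inv, hσf, hc, inv_mul_cancel]))
  let g : σ₀.ker →* σ.ker := (f.comp σ₀.ker.subtype).codRestrict σ.ker fun x => (hσf x).trans x.2
  have hg : Function.Surjective g := fun z => by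
    obtain ⟨c, hc⟩ := hker z.2
    exact ⟨⟨c, by rw [MonoidHom.mem_ker, ← hσf, hc]; exact z.2⟩, Subtype.ext hc⟩
  exact ⟨g.comp e.symm.toMonoidHom, hg.comp e.symm.surjective⟩

end Cfsg.Lib.Schur
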