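import Cfsg.Agent.Lib.Concrete.StemTools

/-!
# Stem extensions and subgroups of index prime to the kernel
-/

set_option autoImplicit false

namespace Cfsg.Lib.Schur

open Cfsg.Lib.Concrete

/-- A subgroup of index prime to `p` without stem extensions forbids them for the group. -/
theorem noStem_of_index_prime {G : Type} [Group G] [Finite G] {p : ℕ} (hp : p.Prime) (H : Subgroup G)
    (hno : NoStem p H) (hidx : ¬ p ∣ H.index) : NoStem p G := by
  intro Γ _ _ σ hs hc hcard hle
  haveI := Fact.mk hp
  have hHt : σ.ker ≤ H.comap σ := fun x hx => by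
    show σ x ∈ H
    rw [MonoidHom.mem_ker.1 hx]; exact H.one_mem
  let τ : H.comap σ →* H := (σ.comp (H.comap σ).subtype).codRestrict H fun x => x.2
  have hτs : Function.Surjective τ := fun y => by
    obtain ⟨x, hx⟩ := hs y
    exact ⟨⟨x, show σ x ∈ H from hx ▸ y.2⟩, Subtype.ext hx⟩
  have hτk : τ.ker = σ.ker.subgroupOf (H.comap σ) := by
    ext x
    exact ⟨fun h => (congrArg Subtype.val h : σ x = 1), fun h => Subtype.ext h⟩
  have hτc : τ.ker ≤ Subgroup.center (H.comap σ) := fun x hx => Subgroup.mem_center_iff.2 fun y =>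
    Subtype.ext (Subgroup.mem_center_iff.1 (hc (by rw [hτk] at hx; exact hx)) y)
  have hτcard : Nat.card τ.ker = p := by
    rw [hτk, Nat.card_congr (Subgroup.subgroupOfEquivOfLe hHt).toEquiv, hcard]
  refine hno (H.comap σ) τ hτs hτc hτcard fun x hx => ?_
  rw [hτk] at hx
  have hx1 : Abelianization.of x ^ (H.comap σ).index = 1 :=
    center_pow_index_eq_one (H.comap σ) Abelianization.of (hc hx) (hle hx) x.2
  have hxp : x ^ p = 1 := Subtype.ext (by
    have : (⟨(x : Γ), hx⟩ : σ.ker) ^ p = 1 := hcard ▸ pow_card_eq_one'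
    rw [Subgroup.coe_pow]
    simpa using congrArg (fun y : σ.ker => (y : Γ)) this)
  have hp1 : Abelianization.of x ^ p = 1 := by rw [← map_pow, hxp, map_one]
  have hcop : Nat.Coprime p (H.comap σ).index := by
    rw [Subgroup.index_comap_of_surjective _ hs]
    exact hp.coprime_iff_not_dvd.2 hidx
  have h1 := pow_gcd_eq_one.2 ⟨hp1, hx1⟩
  rw [hcop.gcd_eq_one, pow_one, ← MonoidHom.mem_ker, Abelianization.ker_of] at h1
  exact h1

end Cfsg.Lib.Schur
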