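import Cfsg.Agent.Lib.Concrete.StemSplit

/-!
# Stem certificates with relators known to lift to the identity
-/

set_option autoImplicit false
set_option linter.unusedSimpArgs false

namespace Cfsg.Lib.Schur.Zero

open Finset Cfsg.Lib.Concrete Cfsg.Lib.Concrete.StemCert

variable {p : ℕ}

/-- The vector of a constraint or of a known relator. -/
def rowVec (c : StemCert) {q : ℕ} (A : SVec q c.m) (zs : List ℕ) (k : ℕ) : ℕ :=
  if k < c.cons.length then c.consVec A k else A.unit (zs.getD (k - c.cons.length) 0)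

/-- The combinations of constraints and known relators give every unknown. -/
def combsZero (c : StemCert) {q : ℕ} (A : SVec q c.m) (zs : List ℕ) : Bool :=
  (c.cons.all fun e => decide (e.1 < c.rels.length) && decide (e.2 < c.N)) &&
    (List.range c.m).all fun j => ((c.combs.getD j []).all fun k => decide (k < c.cons.length + zs.length)) &&
      Nat.beq (A.sum ((c.combs.getD j []).map (rowVec c A zs))) (A.unit j)

/-- The known relators involve each letter a multiple of `q` times. -/
def zeroOk (c : StemCert) (q : ℕ) (zs : List ℕ) : Bool :=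
  zs.all fun r => decide (r < c.rels.length) && Nat.beq ((c.rels.getD r []).count 0 % q) 0 &&
    Nat.beq ((c.rels.getD r []).count 1 % q) 0

/-- The whole check. -/
def checkZero (c : StemCert) {q : ℕ} (A : SVec q c.m) (zs : List ℕ) : Bool :=
  c.shapeOk && c.specOk q && c.initOk A && c.stepsOk A c.steps c.known0 && zeroOk c q zs && combsZero c A zs

variable {c : StemCert}

/-- A cocycle passing the check is a coboundary. -/
theorem exists_coboundary_zero [Fact p.Prime] (A : SVec p c.m) (zs : List ℕ) (hc : checkZero c A zs = true) (v : ℕ → ℕ → ZMod p)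
    (z : ℕ → ZMod p) (hz : ∀ r < c.rels.length, ∀ x < c.N, pathSum c v (c.rels.getD r []) x = z r) (hzero : ∀ r ∈ zs, z r = 0) :
    ∃ (a : ℕ → ZMod p) (d : ℕ → ZMod p), ∀ i < 2, ∀ x < c.N, v i x = a i + d (c.tab i x) - d x := by
  simp only [checkZero, Bool.and_eq_true] at hc
  obtain ⟨⟨⟨⟨⟨hsh, hsp⟩, hin⟩, hst⟩, hzs⟩, hco⟩ := hc
  have hp1 : 1 < p := (Fact.out : p.Prime).one_lt
  have hN : 0 < c.N := by
    simp only [shapeOk, Bool.and_eq_true, decide_eq_true_eq] at hsh
    exact hsh.1.1.1.1.1.1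
  have hspec : c.spec.1 < 2 * c.N ∧ c.spec.2 < 2 * c.N := by
    simp only [shapeOk, Bool.and_eq_true, decide_eq_true_eq] at hsh
    exact ⟨hsh.1.2, hsh.2⟩
  have hrl : c.rels.length ≤ c.m := by
    simp only [shapeOk, Bool.and_eq_true, decide_eq_true_eq] at hsh
    exact hsh.1.1.1.1.1.2
  have hdiv : ∀ e, e < 2 * c.N → e / c.N < 2 ∧ e % c.N < c.N := fun e he =>
    ⟨(Nat.div_lt_iff_lt_mul hN).2 he, Nat.mod_lt _ hN⟩
  -- the gauge
  let u : (ℕ → ZMod p) → ℕ → ZMod p := fun a e =>
    v (e / c.N) (e % c.N) - a (e / c.N) -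
      (c.potential (fun i y => v i y - a i) (c.tab (e / c.N) (e % c.N)) -
        c.potential (fun i y => v i y - a i) (e % c.N))
  let af : ZMod p × ZMod p → ℕ → ZMod p := fun a i => if i = 0 then a.1 else a.2
  have hu : ∀ e, e < 2 * c.N → ∀ a : ZMod p × ZMod p, u (af a) e = u (af 0) e -
      ((c.specCoef p e 0 : ℕ) * a.1 + (c.specCoef p e 1 : ℕ) * a.2) := by
    intro e he a
    obtain ⟨h1, h2⟩ := hdiv e he
    have h3 := shape_lt hsh h1 h2
    have hm1 : ((p - 1 : ℕ) : ZMod p) = -1 := by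
      rw [Nat.cast_sub hp1.le]; simp
    simp only [u, potential_count hsh v _ c.N _ h2 h2.le, potential_count hsh v _ c.N _ h3 h3.le]
    simp only [specCoef, Nat.cast_add, Nat.cast_mul, hm1]
    obtain h1 | h1 : e / c.N = 0 ∨ e / c.N = 1 := by generalize e / c.N = q at h1; omega
    all_goals simp [af, h1]; ring
  let L : ZMod p × ZMod p → ZMod p × ZMod p := fun a =>
    ((c.specCoef p c.spec.1 0 : ℕ) * a.1 + (c.specCoef p c.spec.1 1 : ℕ) * a.2,
     (c.specCoef p c.spec.2 0 : ℕ) * a.1 + (c.specCoef p c.spec.2 1 : ℕ) * a.2)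
  have hL : Function.Injective L := by
    intro a b hab
    by_contra hne
    simp only [L, Prod.mk.injEq] at hab
    have hd1 : (c.specCoef p c.spec.1 0 : ℕ) * (a.1 - b.1) + (c.specCoef p c.spec.1 1 : ℕ) * (a.2 - b.2) = 0 := by
      linear_combination hab.1
    have hd2 : (c.specCoef p c.spec.2 0 : ℕ) * (a.1 - b.1) + (c.specCoef p c.spec.2 1 : ℕ) * (a.2 - b.2) = 0 := by
      linear_combination hab.2
    simp only [specOk, List.all_eq_true, List.mem_range, Bool.or_eq_true, Bool.and_eq_true,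
      Bool.not_eq_true', Bool.and_eq_false_iff, Nat.beq_eq] at hsp
    have := hsp (a.1 - b.1).val (ZMod.val_lt _) (a.2 - b.2).val (ZMod.val_lt _)
    have hbf : ∀ k : ℕ, Nat.beq (k % p) 0 = false → (k : ZMod p) ≠ 0 := by
      intro k hk h0
      rw [ZMod.natCast_eq_zero_iff, Nat.dvd_iff_mod_eq_zero] at h0
      rw [h0] at hk; exact absurd hk (by decide)
    rcases this with ⟨h1, h2⟩ | h | h
    · refine hne (Prod.ext ?_ ?_)
      · exact sub_eq_zero.1 ((ZMod.val_eq_zero _).1 h1)
      · exact sub_eq_zero.1 ((ZMod.val_eq_zero _).1 h2)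
    · exact hbf _ h (by push_cast [ZMod.natCast_zmod_val]; exact hd1)
    · exact hbf _ h (by push_cast [ZMod.natCast_zmod_val]; exact hd2)
  obtain ⟨a, ha⟩ := (Finite.injective_iff_surjective.1 hL) (u (af 0) c.spec.1, u (af 0) c.spec.2)
  simp only [L, Prod.mk.injEq] at ha
  set d := c.potential (fun i y => v i y - af a i) with hd
  refine ⟨af a, d, ?_⟩
  have hu1 : u (af a) c.spec.1 = 0 := by rw [hu _ hspec.1, ha.1, sub_self]
  have hu2 : u (af a) c.spec.2 = 0 := by rw [hu _ hspec.2, ha.2, sub_self]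
  set U := u (af a) with hU
  have htree : ∀ x, x + 1 < c.N → U (c.pi' (x + 1) * c.N + c.px (x + 1)) = 0 := by
    intro x hx
    obtain ⟨hlt, htab⟩ := shape_par hsh (x := x + 1) (by omega) hx
    have hpx : c.px (x + 1) < c.N := by omega
    simp only [hU, u]
    rw [Nat.mul_comm (c.pi' (x + 1)), Nat.mul_add_div hN, Nat.div_eq_of_lt hpx, Nat.add_zero,
      Nat.mul_add_mod, Nat.mod_eq_of_lt hpx, htab]
    conv_lhs => arg 2; arg 1; rw [potential, dif_pos hlt]
    ring
  -- relators
  let asum : List ℕ → ZMod p := fun W => (W.map (af a)).sum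
  have htel : ∀ W : List ℕ, (∀ i ∈ W, i < 2) → ∀ x < c.N,
      ((c.edges W x).map U).sum = pathSum c v W x - asum W - (d (c.endPt W x) - d x) := by
    intro W hW x hx
    induction W with
    | nil => simp [edges, asum, endPt, pathSum]
    | cons i W ih =>
      have hW' : ∀ j ∈ W, j < 2 := fun j hj => hW j (List.mem_cons_of_mem _ hj)
      have he := endPt_lt hsh hW' hx
      rw [edges, List.map_cons, List.sum_cons, ih hW', endPt, pathSum]
      simp only [asum, List.map_cons, List.sum_cons, hU, u, hd, Nat.add_eq, Nat.mul_eq]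
      rw [Nat.mul_comm i, Nat.mul_add_div hN, Nat.div_eq_of_lt he, Nat.add_zero, Nat.mul_add_mod,
        Nat.mod_eq_of_lt he]
      ring
  let s : ℕ → ZMod p := fun j =>
    if j < c.rels.length then z j - asum (c.rels.getD j [])
    else U (((c.seeds.find? fun e => e.2 == j).map Prod.fst).getD 0)
  have hrel : ∀ r < c.rels.length, ∀ x < c.N, ((c.edges (c.rels.getD r []) x).map U).sum = s r := by
    intro r hr x hx
    obtain ⟨hW, hWx⟩ := shape_rel hsh (List.getD_eq_getElem _ _ hr ▸ List.getElem_mem hr)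
    rw [htel _ hW x hx, hWx x hx, hz r hr x hx, sub_self, sub_zero]
    simp only [s, if_pos hr]
  simp only [initOk, Bool.and_eq_true, List.all_eq_true, decide_eq_true_eq, Nat.beq_eq] at hin
  obtain ⟨⟨hz0, hseed⟩, hnd⟩ := hin
  have hinit : ∀ e, c.known0.testBit e = true → U e = A.eval s (c.val e) := by
    intro e he
    rcases testBit_foldl_mark _ _ _ he with h | h
    · simp at h
    rcases List.mem_append.1 h with h | h
    · rw [hz0 e h, A.eval_zero]
      rcases List.mem_cons.1 h with rfl | h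
      · exact hu1
      rcases List.mem_cons.1 h with rfl | h
      · exact hu2
      obtain ⟨x, hx, rfl⟩ := List.mem_map.1 h
      exact htree x (by have := List.mem_range.1 hx; omega)
    · obtain ⟨q, hq, rfl⟩ := List.mem_map.1 h
      obtain ⟨⟨h1, h2⟩, h3⟩ := hseed q hq
      rw [h3, A.eval_unit s _ h2]
      have hfind : c.seeds.find? (fun e => e.2 == q.2) = some q := by
        cases e : c.seeds.find? (fun e => e.2 == q.2) with
        | none =>
          rw [List.find?_eq_none] at e
          exact absurd (e q hq) (by simp)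
        | some q' =>
          have hq' := List.mem_of_find?_eq_some e
          have he2 : q'.2 = q.2 := by simpa using List.find?_some e
          rw [List.inj_on_of_nodup_map hnd hq' hq he2]
      simp only [s, if_neg (Nat.not_lt.2 h1), hfind, Option.map_some, Option.getD_some]
  have key : ∀ (st : List (ℕ × ℕ × ℕ)) (K : ℕ), c.stepsOk A st K = true →
      (∀ e, K.testBit e = true → U e = A.eval s (c.val e)) →
      ∀ e < 2 * c.N, U e = A.eval s (c.val e) := by
    intro st
    induction st with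
    | nil =>
      intro K hK hinv e he
      exact hinv e (List.all_eq_true.1 hK e (List.mem_range.2 he))
    | cons q rest ih =>
      intro K hK hinv
      simp only [stepsOk, Bool.and_eq_true, decide_eq_true_eq, List.all_eq_true, Bool.or_eq_true,
        Nat.beq_eq, Bool.not_eq_true'] at hK
      obtain ⟨⟨⟨⟨⟨h1, h2⟩, h3⟩, h4⟩, h5⟩, h6⟩ := hK
      refine ih _ h6 fun e he => ?_
      rw [testBit_mark, Bool.or_eq_true, decide_eq_true_eq] at he
      rcases he with he | rfl
      · exact hinv e he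
      set P := c.edges (c.rels.getD q.2.1 []) q.2.2 with hP
      have hs1 : (P.map fun e => U e - A.eval s (c.val e)).sum = 0 := by
        have hsub : ∀ L : List ℕ, (L.map fun e => U e - A.eval s (c.val e)).sum =
            (L.map U).sum - (L.map fun e => A.eval s (c.val e)).sum := by
          intro L
          induction L with
          | nil => simp
          | cons e L ihL => simp only [List.map_cons, List.sum_cons, ihL]; ring
        rw [hsub, hrel _ h1 _ h2]
        have := A.eval_sum s (P.map c.val)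
        rw [h5, A.eval_unit s _ (by omega), List.map_map] at this
        rw [show (P.map fun e => A.eval s (c.val e)).sum = s q.2.1 from this.symm, sub_self]
      have hs2 : (P.map fun e => U e - A.eval s (c.val e)).sum =
          (P.count q.1 : ℕ) * (U q.1 - A.eval s (c.val q.1)) := by
        rw [Finset.sum_list_map_count, Finset.sum_eq_single q.1]
        · rw [nsmul_eq_mul]
        · intro e he hne
          rcases h3 e (List.mem_toFinset.1 he) with (h | h) | h
          · rw [hinv e h, sub_self, nsmul_zero]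
          · exact absurd h hne
          · rw [nsmul_eq_mul, (ZMod.natCast_eq_zero_iff _ _).2 (Nat.dvd_of_mod_eq_zero h), zero_mul]
        · intro hn
          rw [List.count_eq_zero_of_not_mem (fun h => hn (List.mem_toFinset.2 h)), zero_smul]
      have hcount : ((P.count q.1 : ℕ) : ZMod p) ≠ 0 := by
        intro h0
        rw [ZMod.natCast_eq_zero_iff, Nat.dvd_iff_mod_eq_zero] at h0
        rw [h0] at h4; exact absurd h4 (by decide)
      rw [hs2] at hs1
      exact sub_eq_zero.1 ((mul_eq_zero.1 hs1).resolve_left hcount)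
  have hval := key c.steps c.known0 hst hinit
  -- constraints
  simp only [combsZero, Bool.and_eq_true, List.all_eq_true, decide_eq_true_eq, List.mem_range,
    Nat.beq_eq] at hco
  obtain ⟨hcons, hcomb⟩ := hco
  have hrow : ∀ k < c.cons.length, A.eval s (c.consVec A k) = 0 := by
    intro k hk
    obtain ⟨h1, h2⟩ := hcons _ (List.getD_eq_getElem _ (0, 0) hk ▸ List.getElem_mem hk)
    have hW := (shape_rel hsh (List.getD_eq_getElem c.rels [] h1 ▸ List.getElem_mem h1)).1
    simp only [consVec, A.eval_add, A.eval_sum, List.map_map, List.map_replicate, List.sum_replicate,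
      A.eval_unit s _ (lt_of_lt_of_le h1 hrl), nsmul_eq_mul]
    have he : ∀ e ∈ c.edges (c.rels.getD (c.cons.getD k (0, 0)).1 []) (c.cons.getD k (0, 0)).2,
        e < 2 * c.N := by
      generalize c.rels.getD (c.cons.getD k (0, 0)).1 [] = W at hW
      induction W with
      | nil => simp [edges]
      | cons i W ihW =>
        intro e he
        rcases List.mem_cons.1 he with rfl | he
        · have := endPt_lt hsh (fun j hj => hW j (List.mem_cons_of_mem _ hj)) h2
          have := hW i (List.mem_cons_self ..)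
          simp only [Nat.add_eq, Nat.mul_eq]
          interval_cases i <;> omega
        · exact ihW (fun j hj => hW j (List.mem_cons_of_mem _ hj)) e he
    rw [show ((A.eval s) ∘ c.val) = fun e => A.eval s (c.val e) from rfl,
      List.map_congr_left (fun e h => (hval e (he e h)).symm), hrel _ h1 _ h2,
      Nat.cast_sub hp1.le]
    simp
  simp only [zeroOk, List.all_eq_true, Bool.and_eq_true, decide_eq_true_eq, Nat.beq_eq] at hzs
  have hzr : ∀ r ∈ zs, s r = 0 := by
    intro r hr
    obtain ⟨⟨h1, h2⟩, h3⟩ := hzs r hr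
    have hW := (shape_rel hsh (List.getD_eq_getElem c.rels [] h1 ▸ List.getElem_mem h1)).1
    simp only [s, if_pos h1, hzero r hr, zero_sub, neg_eq_zero, asum]
    rw [Finset.sum_list_map_count]
    refine Finset.sum_eq_zero fun i hi => ?_
    have := hW i (List.mem_toFinset.1 hi)
    rw [nsmul_eq_mul]
    interval_cases i
    · rw [(ZMod.natCast_eq_zero_iff _ _).2 (Nat.dvd_of_mod_eq_zero h2), zero_mul]
    · rw [(ZMod.natCast_eq_zero_iff _ _).2 (Nat.dvd_of_mod_eq_zero h3), zero_mul]
  have hrow2 : ∀ k < c.cons.length + zs.length, A.eval s (rowVec c A zs k) = 0 := by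
    intro k hk
    unfold rowVec
    split
    · exact hrow k ‹_›
    · have hm : zs.getD (k - c.cons.length) 0 ∈ zs := by
        rw [List.getD_eq_getElem _ _ (by omega)]; exact List.getElem_mem _
      rw [A.eval_unit s _ (lt_of_lt_of_le (hzs _ hm).1.1 hrl)]
      exact hzr _ hm
  have hs0 : ∀ j < c.m, s j = 0 := by
    intro j hj
    obtain ⟨h1, h2⟩ := hcomb j hj
    rw [← A.eval_unit s j hj, ← h2, A.eval_sum, List.map_map]
    exact List.sum_eq_zero fun y hy => by
      obtain ⟨k, hk, rfl⟩ := List.mem_map.1 hy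
      exact hrow2 k (h1 k hk)
  intro i hi x hx
  have he : i * c.N + x < 2 * c.N := by interval_cases i <;> omega
  have h0 : U (i * c.N + x) = 0 := by
    rw [hval _ he]
    exact A.eval_eq_zero hs0 _
  simp only [hU, u] at h0
  rw [Nat.mul_comm i, Nat.mul_add_div hN, Nat.div_eq_of_lt hx, Nat.add_zero, Nat.mul_add_mod,
    Nat.mod_eq_of_lt hx, sub_eq_zero] at h0
  linear_combination h0

open MulAction
open scoped Pointwise

/-- The certificate theorem for one extension. -/
theorem not_le_of_cert {G : Type} [Group G] [Finite G] {p : ℕ} [Fact p.Prime] (c : StemCert)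
    (A : SVec p c.m) (zs : List ℕ) (hc : checkZero c A zs = true) {Ω : Type} [MulAction G Ω] (P : ℕ → Ω) (s : ℕ → G)
    (hgen : Subgroup.closure {g | g = s 0 ∨ g = s 1} = ⊤)
    (hact : ∀ i < 2, ∀ x < c.N, s i • P x = P (c.tab i x))
    (hsep : ∀ y < c.N, P y = P 0 → y = 0)
    (hrel : ∀ W ∈ c.rels, wordProd s W = 1)
    (hlift : LiftsAt p (stabilizer G (P 0))) {Γ : Type} [Group Γ] [Finite Γ] (σ : Γ →* G)
    (hs : Function.Surjective σ) (hcen : σ.ker ≤ Subgroup.center Γ) (hcard : Nat.card σ.ker = p)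
    (hone : ∀ st : ℕ → Γ, (∀ i, σ (st i) = s i) → ∀ r ∈ zs, wordProd st (c.rels.getD r []) = 1) :
    ¬ σ.ker ≤ commutator Γ := by
  intro hle
  have hp : p.Prime := Fact.out
  obtain ⟨hsh, -⟩ : c.shapeOk = true ∧ True := by
    simp only [checkZero, Bool.and_eq_true] at hc
    exact ⟨hc.1.1.1.1.1, trivial⟩
  have hN : 0 < c.N := by
    simp only [StemCert.shapeOk, Bool.and_eq_true, decide_eq_true_eq] at hsh
    exact hsh.1.1.1.1.1.1
  obtain ⟨K, hKle, hKd, hKs⟩ := hlift Γ σ hs hcen hcard
  have hzn : σ.ker.Normal := MonoidHom.normal_ker σ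
  let eZ : Multiplicative (ZMod p) ≃* σ.ker := mulEquivOfPrimeCardEq (p := p) (by simp) hcard
  let ζ : ZMod p → Γ := fun a => (eZ (Multiplicative.ofAdd a) : Γ)
  have hζmem : ∀ a, ζ a ∈ σ.ker := fun a => (eZ _).2
  have hadd : ∀ a b, ζ (a + b) = ζ a * ζ b := fun a b => by
    simp only [ζ, ofAdd_add, map_mul, Subgroup.coe_mul]
  have h0 : ζ 0 = 1 := by simp [ζ]
  have hcomm : ∀ a g, g * ζ a = ζ a * g := fun a g => Subgroup.mem_center_iff.1 (hcen (hζmem a)) g
  have hsurj : ∀ z ∈ σ.ker, ∃ a, ζ a = z := fun z hz =>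
    ⟨Multiplicative.toAdd (eZ.symm ⟨z, hz⟩), by simp [ζ]⟩
  have hinj : ∀ a, ζ a ∈ K → a = 0 := fun a ha => by
    have : ζ a ∈ K ⊓ σ.ker := ⟨ha, hζmem a⟩
    rw [hKd, Subgroup.mem_bot] at this
    have h1 : eZ (Multiplicative.ofAdd a) = 1 := Subtype.ext this
    rwa [MulEquiv.map_eq_one_iff, ofAdd_eq_one] at h1
  -- representatives of the points
  have hrep : ∀ x, x < c.N → ∃ r : G, r • P 0 = P x := by
    intro x
    induction x using Nat.strong_induction_on with
    | _ x ih =>
      intro hx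
      rcases Nat.eq_zero_or_pos x with rfl | hpos
      · exact ⟨1, one_smul ..⟩
      obtain ⟨hlt, htab⟩ := StemCert.shape_par hsh hpos hx
      obtain ⟨r, hr⟩ := ih _ hlt (by omega)
      exact ⟨s (c.pi' x) * r, by rw [mul_smul, hr, hact _ (c.pi'_lt x) _ (by omega), htab]⟩
  have hrep' : ∀ x, ∃ r : Γ, x < c.N → σ r • P 0 = P x := fun x => by
    by_cases hx : x < c.N
    · obtain ⟨r, hr⟩ := hrep x hx
      obtain ⟨t, rfl⟩ := hs r
      exact ⟨t, fun _ => hr⟩
    · exact ⟨1, fun h => absurd h hx⟩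
  choose rt hrt using hrep'
  choose st hst using fun i => hs (s i)
  let e : ℕ → Γ ⧸ K := fun x => (rt x : Γ ⧸ K)
  have hv : ∀ i x, ∃ v : ZMod p, i < 2 → x < c.N → st i • e x = ζ v • e (c.tab i x) := by
    intro i x
    by_cases h : i < 2 ∧ x < c.N
    swap
    · exact ⟨0, fun h1 h2 => absurd ⟨h1, h2⟩ h⟩
    obtain ⟨hi, hx⟩ := h
    have hy := StemCert.shape_lt hsh hi hx
    have hmem : (rt (c.tab i x))⁻¹ * st i * rt x ∈ K ⊔ σ.ker := by
      rw [hKs, Subgroup.mem_comap, mem_stabilizer_iff, map_mul, map_mul, map_inv, mul_smul, mul_smul,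
        hrt x hx, hst, hact i hi x hx, inv_smul_eq_iff, hrt _ hy]
    obtain ⟨k, hk, z, hz, hkz⟩ := Set.mem_mul.1
      (Subgroup.mul_normal K σ.ker ▸ hmem : (rt (c.tab i x))⁻¹ * st i * rt x ∈ (↑K * ↑σ.ker : Set Γ))
    obtain ⟨a, rfl⟩ := hsurj z hz
    refine ⟨a, fun _ _ => ?_⟩
    show ((st i * rt x : Γ) : Γ ⧸ K) = ((ζ a * rt (c.tab i x) : Γ) : Γ ⧸ K)
    rw [QuotientGroup.eq]
    have hsx : st i * rt x = ζ a * rt (c.tab i x) * k := by
      calc st i * rt x = rt (c.tab i x) * ((rt (c.tab i x))⁻¹ * st i * rt x) := by group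
        _ = rt (c.tab i x) * (k * ζ a) := by rw [hkz]
        _ = ζ a * rt (c.tab i x) * k := by rw [hcomm a k, ← mul_assoc, hcomm a]
    rw [hsx]
    simpa [mul_assoc] using K.inv_mem hk
  choose v hv using hv
  have hz : ∀ r, ∃ z : ZMod p, r < c.rels.length →
      ∀ x < c.N, c.pathSum v (c.rels.getD r []) x = z := by
    intro r
    by_cases hr : r < c.rels.length
    swap
    · exact ⟨0, fun h => absurd h hr⟩
    have hW : c.rels.getD r [] ∈ c.rels := List.getD_eq_getElem c.rels [] hr ▸ List.getElem_mem hr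
    obtain ⟨hW2, hWx⟩ := StemCert.shape_rel hsh hW
    have hwk : wordProd st (c.rels.getD r []) ∈ σ.ker := by
      rw [MonoidHom.mem_ker]
      have : σ (wordProd st (c.rels.getD r [])) = wordProd s (c.rels.getD r []) := by
        simp only [wordProd, map_list_prod, List.map_map]
        congr 1
        exact List.map_congr_left fun i _ => hst i
      rw [this, hrel _ hW]
    obtain ⟨z, hz⟩ := hsurj _ hwk
    refine ⟨z, fun _ x hx => ?_⟩
    have h1 := endPt_path c hsh st e ζ hadd h0 hcomm v (fun i hi x hx => hv i x hi hx) _ hW2 x hx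
    rw [hWx x hx, ← hz] at h1
    change ((ζ z * rt x : Γ) : Γ ⧸ K) = ((ζ (c.pathSum v (c.rels.getD r []) x) * rt x : Γ) : Γ ⧸ K) at h1
    rw [QuotientGroup.eq] at h1
    have hsum : ζ (c.pathSum v (c.rels.getD r []) x) =
        ζ (c.pathSum v (c.rels.getD r []) x - z) * ζ z := by rw [← hadd, sub_add_cancel]
    have key : ∀ (w : Γ) (q : ZMod p), w⁻¹ * (ζ q * w) = ζ q := fun w q => by
      rw [← hcomm q w, inv_mul_cancel_left]
    rw [hsum, mul_assoc, key] at h1
    exact sub_eq_zero.1 (hinj _ h1)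
  choose z hz using hz
  have hz0 : ∀ r ∈ zs, z r = 0 := by
    intro r hr
    have hrl : r < c.rels.length := by
      simp only [checkZero, zeroOk, Bool.and_eq_true, List.all_eq_true, decide_eq_true_eq] at hc
      exact (hc.1.2 r hr).1.1
    have hW : c.rels.getD r [] ∈ c.rels := List.getD_eq_getElem c.rels [] hrl ▸ List.getElem_mem hrl
    obtain ⟨hW2, hWx⟩ := StemCert.shape_rel hsh hW
    have h1 := endPt_path c hsh st e ζ hadd h0 hcomm v (fun i hi x hx => hv i x hi hx) _ hW2 0 hN
    rw [hWx 0 hN, hone st hst r hr, one_smul, hz r hrl 0 hN] at h1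
    change ((rt 0 : Γ) : Γ ⧸ K) = ((ζ (z r) * rt 0 : Γ) : Γ ⧸ K) at h1
    rw [QuotientGroup.eq, ← hcomm (z r) (rt 0), inv_mul_cancel_left] at h1
    exact hinj _ h1
  obtain ⟨a, d, had⟩ := exists_coboundary_zero A zs hc v z hz hz0
  let e' : ℕ → Γ ⧸ K := fun x => ζ (d x) • e x
  let st' : ℕ → Γ := fun i => ζ (-a i) * st i
  set S := Subgroup.closure {g | g = st' 0 ∨ g = st' 1}
  have hstep : ∀ i < 2, ∀ x < c.N, st' i • e' x = e' (c.tab i x) := by
    intro i hi x hx
    show (ζ (-a i) * st i) • ζ (d x) • e x = ζ (d (c.tab i x)) • e (c.tab i x)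
    rw [← mul_smul, mul_assoc, hcomm (d x), ← mul_assoc, ← hadd, mul_smul, hv i x hi hx, ← mul_smul,
      ← hadd, had i hi x hx]
    congr 2; ring
  have hmap : ∀ g ∈ S, ∀ x < c.N, ∃ y < c.N, g • e' x = e' y := by
    intro g hg
    have : g ∈ Submonoid.closure {g | g = st' 0 ∨ g = st' 1} := by
      rwa [← Subgroup.closure_toSubmonoid_of_finite]
    refine Submonoid.closure_induction ?_ ?_ ?_ this
    · rintro g (rfl | rfl) x hx
      · exact ⟨_, StemCert.shape_lt hsh (by norm_num) hx, hstep 0 (by norm_num) x hx⟩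
      · exact ⟨_, StemCert.shape_lt hsh (by norm_num) hx, hstep 1 (by norm_num) x hx⟩
    · intro x hx; exact ⟨x, hx, one_smul ..⟩
    · intro g h _ _ hg hh x hx
      obtain ⟨y, hy, h1⟩ := hh x hx
      obtain ⟨w, hw, h2⟩ := hg y hy
      exact ⟨w, hw, by rw [mul_smul, h1, h2]⟩
  have hsup : S ⊔ σ.ker = ⊤ := by
    rw [← Subgroup.comap_map_eq, MonoidHom.map_closure, ← Subgroup.comap_top σ]
    congr 1
    refine le_antisymm le_top (hgen ▸ Subgroup.closure_mono ?_)
    have hσ : ∀ i, σ (st' i) = s i := fun i => by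
      rw [map_mul, MonoidHom.mem_ker.1 (hζmem _), one_mul, hst]
    rintro g (rfl | rfl)
    · exact ⟨st' 0, Or.inl rfl, hσ 0⟩
    · exact ⟨st' 1, Or.inr rfl, hσ 1⟩
  have hzS : ζ 1 ∈ S := commutator_le_of_abelian_quot hcen hsup (hle (hζmem 1))
  obtain ⟨y, hy, hey⟩ := hmap _ hzS 0 hN
  change ((ζ 1 * (ζ (d 0) * rt 0) : Γ) : Γ ⧸ K) = ((ζ (d y) * rt y : Γ) : Γ ⧸ K) at hey
  rw [QuotientGroup.eq] at hey
  have hy0 : y = 0 := by
    have h1 : σ ((ζ 1 * (ζ (d 0) * rt 0))⁻¹ * (ζ (d y) * rt y)) • P 0 = P 0 := hKle hey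
    rw [map_mul, map_inv, map_mul, map_mul, map_mul, MonoidHom.mem_ker.1 (hζmem 1),
      MonoidHom.mem_ker.1 (hζmem (d 0)), MonoidHom.mem_ker.1 (hζmem (d y)), one_mul, one_mul, one_mul,
      mul_smul, inv_smul_eq_iff, hrt y hy, hrt 0 hN] at h1
    exact hsep y hy h1
  subst hy0
  have h2 : (ζ 1 * (ζ (d 0) * rt 0))⁻¹ * (ζ (d 0) * rt 0) = (ζ 1)⁻¹ := by
    rw [← hcomm 1 (ζ (d 0) * rt 0)]
    group
  rw [h2] at hey
  exact one_ne_zero (hinj 1 (K.inv_mem_iff.1 hey))

end Cfsg.Lib.Schur.Zero
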