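import Cfsg.Agent.Lib.Schur.StemIndex

/-!
# Extensions of a subgroup in which two fused involutions lift alike
-/

set_option autoImplicit false

namespace Cfsg.Lib.Schur

open Cfsg.Lib.Concrete

/-- A subgroup of odd index forbids stem extensions of degree two if it does so for the extensions in which
the lifts of two fused involutions square alike. -/
theorem noStem_two_of_fused {G : Type} [Group G] [Finite G] (H : Subgroup G) (hidx : ¬ 2 ∣ H.index) (t e : H)
    (g : G) (hfus : g * (e : G) * g⁻¹ = t) (he : e * e = 1)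
    (hcert : ∀ (Γ : Type) [Group Γ] [Finite Γ] (τ : Γ →* H), Function.Surjective τ → τ.ker ≤ Subgroup.center Γ →
      Nat.card τ.ker = 2 → (∀ T E : Γ, τ T = t → τ E = e → T * T * (E * E) = 1) → ¬ τ.ker ≤ commutator Γ) :
    NoStem 2 G := by
  intro Γ _ _ σ hs hc hcard hle
  haveI : Fact (Nat.Prime 2) := ⟨Nat.prime_two⟩
  have hsq : ∀ z ∈ σ.ker, z * z = 1 := fun z hz => by
    have h : (⟨z, hz⟩ : σ.ker) ^ 2 = 1 := hcard ▸ pow_card_eq_one'
    rw [pow_two] at h
    exact congrArg Subtype.val h
  have hcen : ∀ z ∈ σ.ker, ∀ x, x * z = z * x := fun z hz x => Subgroup.mem_center_iff.1 (hc hz) x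
  have hHt : σ.ker ≤ H.comap σ := fun x hx => by
    show σ x ∈ H
    rw [MonoidHom.mem_ker.1 hx]; exact H.one_mem
  let τ : H.comap σ →* H := (σ.comp (H.comap σ).subtype).codRestrict H fun x => x.2
  have hτs : Function.Surjective τ := fun y => by
    obtain ⟨x, hx⟩ := hs y
    exact ⟨⟨x, show σ x ∈ H from hx ▸ y.2⟩, Subtype.ext hx⟩
  have hτk : τ.ker = σ.ker.subgroupOf (H.comap σ) := by
    ext x
    exact ⟨fun h => (congrArg Subtype.val h : σ x = 1), fun h => Subtype.ext h⟩
  have hτc : τ.ker ≤ Subgroup.center (H.comap σ) := fun x hx => Subgroup.mem_center_iff.2 fun y =>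
    Subtype.ext (Subgroup.mem_center_iff.1 (hc (by rw [hτk] at hx; exact hx)) y)
  have hτcard : Nat.card τ.ker = 2 := by
    rw [hτk, Nat.card_congr (Subgroup.subgroupOfEquivOfLe hHt).toEquiv, hcard]
  have hfused : ∀ T E : H.comap σ, τ T = t → τ E = e → T * T * (E * E) = 1 := by
    intro T E hT hE
    obtain ⟨g', hg'⟩ := hs g
    have hEk : (E : Γ) * E ∈ σ.ker := by
      rw [MonoidHom.mem_ker, map_mul, show σ E = (e : G) from congrArg Subtype.val hE]
      exact congrArg Subtype.val he
    have hk : (T : Γ)⁻¹ * (g' * E * g'⁻¹) ∈ σ.ker := by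
      rw [MonoidHom.mem_ker, map_mul, map_mul, map_mul, map_inv, map_inv, hg',
        show σ E = (e : G) from congrArg Subtype.val hE, show σ T = (t : G) from congrArg Subtype.val hT, hfus,
        inv_mul_cancel]
    set k := (T : Γ)⁻¹ * (g' * E * g'⁻¹) with hkdef
    have h1 : g' * ((E : Γ) * E) * g'⁻¹ = T * T := by
      calc g' * ((E : Γ) * E) * g'⁻¹ = ((T : Γ) * k) * ((T : Γ) * k) := by rw [hkdef]; group
        _ = T * ((k * T) * k) := by group
        _ = T * ((T * k) * k) := by rw [hcen k hk T]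
        _ = T * T := by rw [mul_assoc (T : Γ) k k, hsq k hk, mul_one]
    rw [hcen _ hEk g', mul_inv_cancel_right] at h1
    refine Subtype.ext ?_
    show (T : Γ) * T * ((E : Γ) * E) = 1
    rw [← h1]
    exact hsq _ hEk
  refine hcert (H.comap σ) τ hτs hτc hτcard hfused fun x hx => ?_
  rw [hτk] at hx
  have hx1 : Abelianization.of x ^ (H.comap σ).index = 1 :=
    center_pow_index_eq_one (H.comap σ) Abelianization.of (hc hx) (hle hx) x.2
  have hxp : x ^ 2 = 1 := Subtype.ext (by
    rw [Subgroup.coe_pow, pow_two]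
    exact hsq _ hx)
  have hp1 : Abelianization.of x ^ 2 = 1 := by rw [← map_pow, hxp, map_one]
  have hcop : Nat.Coprime 2 (H.comap σ).index := by
    rw [Subgroup.index_comap_of_surjective _ hs]
    exact Nat.prime_two.coprime_iff_not_dvd.2 hidx
  have h1 := pow_gcd_eq_one.2 ⟨hp1, hx1⟩
  rw [hcop.gcd_eq_one, pow_one, ← MonoidHom.mem_ker, Abelianization.ker_of] at h1
  exact h1

end Cfsg.Lib.Schur
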