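import Cfsg.Agent.Lib.Concrete.StemCert

/-!
# Ternary coefficient vectors with addition by bit operations
-/

set_option autoImplicit false

namespace Cfsg.Lib.Schur

open Cfsg.Lib.Concrete Finset

/-- A one in every even position. -/
def evenOnes : ℕ → ℕ
  | 0 => 0
  | m + 1 => Nat.add (Nat.mul 4 (evenOnes m)) 1

theorem testBit_evenOnes : ∀ (m j : ℕ), j < m → (evenOnes m).testBit (2 * j) = true := by
  intro m
  induction m with
  | zero => intro j hj; omega
  | succ m ih =>
    intro j hj
    show (4 * evenOnes m + 1).testBit (2 * j) = true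
    rw [show (4 : ℕ) = 2 ^ 2 from rfl, Nat.testBit_two_pow_mul_add _ (by norm_num : (1 : ℕ) < 2 ^ 2)]
    cases j with
    | zero => simp
    | succ j =>
      rw [if_neg (by omega), show 2 * (j + 1) - 2 = 2 * j by omega]
      exact ih j (by omega)

/-- Addition of packed ternary digits, two bits to a digit. -/
def triAdd (M a b : ℕ) : ℕ :=
  let x0 := Nat.land a M
  let x1 := Nat.land (Nat.shiftRight a 1) M
  let y0 := Nat.land b M
  let y1 := Nat.land (Nat.shiftRight b 1) M
  let cx := Nat.land x0 x1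
  let cy := Nat.land y0 y1
  let a0 := Nat.xor x0 cx
  let a1 := Nat.xor x1 cx
  let b0 := Nat.xor y0 cy
  let b1 := Nat.xor y1 cy
  let na := Nat.xor M (Nat.lor a0 a1)
  let nb := Nat.xor M (Nat.lor b0 b1)
  let r0 := Nat.lor (Nat.lor (Nat.land a0 nb) (Nat.land b0 na)) (Nat.land a1 b1)
  let r1 := Nat.lor (Nat.lor (Nat.land a1 nb) (Nat.land b1 na)) (Nat.land a0 b0)
  Nat.lor r0 (Nat.shiftLeft r1 1)

/-- The digit of two bits. -/
def triDig (lo hi : Bool) : ZMod 3 := (if lo then 1 else 0) + (if hi then 2 else 0)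

theorem testBit_evenOnes_odd : ∀ (m j : ℕ), (evenOnes m).testBit (2 * j + 1) = false := by
  intro m
  induction m with
  | zero => intro j; exact Nat.zero_testBit _
  | succ m ih =>
    intro j
    show (4 * evenOnes m + 1).testBit (2 * j + 1) = false
    rw [show (4 : ℕ) = 2 ^ 2 from rfl, Nat.testBit_two_pow_mul_add _ (by norm_num : (1 : ℕ) < 2 ^ 2)]
    cases j with
    | zero => rfl
    | succ j =>
      rw [if_neg (by omega), show 2 * (j + 1) + 1 - 2 = 2 * j + 1 by omega]
      exact ih j

theorem triDig_add (m : ℕ) (a b j : ℕ) (hj : j < m) :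
    triDig ((triAdd (evenOnes m) a b).testBit (2 * j)) ((triAdd (evenOnes m) a b).testBit (2 * j + 1)) =
      triDig (a.testBit (2 * j)) (a.testBit (2 * j + 1)) + triDig (b.testBit (2 * j)) (b.testBit (2 * j + 1)) := by
  have h0 := testBit_evenOnes m j hj
  have h1 := testBit_evenOnes_odd m j
  have hshift : ∀ (r : ℕ), (r <<< 1).testBit (2 * j + 1) = r.testBit (2 * j) := fun r => by
    simp [Nat.testBit_shiftLeft]
  have hsl0 : ∀ (r : ℕ), (∀ i, r.testBit (2 * i + 1) = false) → (r <<< 1).testBit (2 * j) = false := fun r hr => by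
    rw [Nat.testBit_shiftLeft]
    cases j with
    | zero => simp
    | succ j => simp [show 2 * (j + 1) - 1 = 2 * j + 1 by omega, hr]
  unfold triAdd
  simp only [show ∀ x y, Nat.land x y = x &&& y from fun _ _ => rfl,
    show ∀ x y, Nat.lor x y = x ||| y from fun _ _ => rfl, show ∀ x y, Nat.xor x y = x ^^^ y from fun _ _ => rfl,
    show ∀ x y, Nat.shiftRight x y = x >>> y from fun _ _ => rfl,
    show ∀ x y, Nat.shiftLeft x y = x <<< y from fun _ _ => rfl]
  simp only [Nat.testBit_or _ (_ <<< 1), hshift]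
  rw [hsl0 _ (fun i => by simp [Nat.testBit_or, Nat.testBit_and, testBit_evenOnes_odd m i])]
  simp only [Nat.testBit_or, Nat.testBit_and, Nat.testBit_xor, Nat.testBit_shiftRight, h0, h1,
    show 1 + 2 * j = 2 * j + 1 by omega, Bool.and_true, Bool.and_false, Bool.or_false, Bool.false_or,
    Bool.xor_false, Bool.false_and]
  cases a.testBit (2 * j) <;> cases a.testBit (2 * j + 1) <;> cases b.testBit (2 * j) <;>
    cases b.testBit (2 * j + 1) <;> decide

/-- Ternary vectors. -/
def triVec (m : ℕ) : SVec 3 m where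
  add := triAdd (evenOnes m)
  unit j := Nat.pow 4 j
  eval s v := ∑ j ∈ range m, triDig (v.testBit (2 * j)) (v.testBit (2 * j + 1)) * s j
  eval_zero s := by simp [triDig]
  eval_add s a b := by
    rw [← sum_add_distrib]
    refine sum_congr rfl fun j hj => ?_
    rw [triDig_add m a b j (mem_range.1 hj), add_mul]
  eval_unit s i hi := by
    have e : Nat.pow 4 i = 2 ^ (2 * i) := (pow_mul 2 2 i).symm
    rw [sum_eq_single_of_mem i (mem_range.2 hi)]
    · rw [e, Nat.testBit_two_pow, Nat.testBit_two_pow]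
      simp [triDig]
    · intro j _ hne
      rw [e, Nat.testBit_two_pow, Nat.testBit_two_pow]
      simp [triDig, show ¬ 2 * i = 2 * j from by omega, show ¬ 2 * i = 2 * j + 1 from by omega]
  eval_eq_zero h v := sum_eq_zero fun j hj => by rw [h j (mem_range.1 hj), mul_zero]

end Cfsg.Lib.Schur
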