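import Cfsg.Agent.Lib.Schur.Basic

/-!
# Schur covers as quotients of the free central extension
-/

set_option autoImplicit false

namespace Cfsg.Lib.Schur

open Subgroup

universe u v

variable {Q : Type u} [Group Q]

/-- The covering group belonging to a retraction of the kernel onto the multiplier. -/
theorem exists_cover_of_retraction [Finite Q] (p : (covMap (canon Q)).ker →* M Q)
    (hp : ∀ m : M Q, p ⟨m.1, m.2.1⟩ = m) :
    ∃ (Γ : Type u) (_ : Group Γ) (_ : Finite Γ) (σ : Γ →* Q) (β : Cov (canon Q) →* Γ),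
      IsStemExtension σ ∧ Nonempty (σ.ker ≃* M Q) ∧ σ.comp β = covMap (canon Q) ∧
      (∀ r, β r.1 = β (p r).1) ∧ ∀ m : M Q, β m.1 = 1 → m = 1 := by
  let S := p.ker.map (covMap (canon Q)).ker.subtype
  have hSK : S ≤ (covMap (canon Q)).ker := map_subtype_le _
  have : S.Normal := ⟨fun s hs g => by
    rwa [mem_center_iff.mp (ker_covMap_le_center (canon Q) (hSK hs)) g, mul_inv_cancel_right]⟩
  let σ : Cov (canon Q) ⧸ S →* Q := QuotientGroup.lift S (covMap (canon Q)) hSK
  have hp2 : ∀ r : (covMap (canon Q)).ker, QuotientGroup.mk' S r.1 = QuotientGroup.mk' S (p r).1 := fun r => by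
    symm
    refine QuotientGroup.eq.mpr ⟨(⟨(p r).1, (p r).2.1⟩ : (covMap (canon Q)).ker)⁻¹ * r, ?_, rfl⟩
    show p _ = 1
    rw [map_mul, map_inv, hp, inv_mul_cancel]
  let j : M Q →* σ.ker := ((QuotientGroup.mk' S).comp (mult (canon Q)).subtype).codRestrict σ.ker fun m => m.2.1
  have hj1 : ∀ m : M Q, QuotientGroup.mk' S m.1 = 1 → m = 1 := fun m hm => by
    obtain ⟨r, hr, he⟩ := (QuotientGroup.eq_one_iff m.1).mp hm
    rw [← hp m, show (⟨m.1, m.2.1⟩ : (covMap (canon Q)).ker) = r from Subtype.ext he.symm]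
    exact hr
  have hj : Function.Bijective j := by
    refine ⟨(injective_iff_map_eq_one j).mpr fun m hm => hj1 m (congrArg Subtype.val hm), ?_⟩
    rintro ⟨x, hx⟩
    obtain ⟨c, rfl⟩ := QuotientGroup.mk'_surjective S x
    exact ⟨p ⟨c, hx⟩, Subtype.ext (hp2 ⟨c, hx⟩).symm⟩
  have hstem : IsStemExtension σ := by
    refine ⟨fun q => ?_, ?_, ?_⟩
    · obtain ⟨c, hc⟩ := covMap_surjective (canon Q) canon_surjective q
      exact ⟨(c : Cov (canon Q) ⧸ S), hc⟩
    · intro x hx
      obtain ⟨m, hm⟩ := hj.2 ⟨x, hx⟩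
      have hxe : QuotientGroup.mk' S m.1 = x := congrArg Subtype.val hm
      rw [mem_center_iff]
      intro y
      obtain ⟨d, rfl⟩ := QuotientGroup.mk'_surjective S y
      rw [← hxe, ← map_mul, ← map_mul, mem_center_iff.mp (mult_le_center (canon Q) m.2) d]
    · intro x hx
      obtain ⟨m, hm⟩ := hj.2 ⟨x, hx⟩
      have hxe : QuotientGroup.mk' S m.1 = x := congrArg Subtype.val hm
      rw [← hxe, _root_.commutator_def, ← map_top_of_surjective (QuotientGroup.mk' S) (QuotientGroup.mk'_surjective S),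
        ← Subgroup.map_commutator]
      exact mem_map_of_mem _ m.2.2
  have : Finite (Cov (canon Q) ⧸ S) := by
    have : Finite σ.ker := Finite.of_surjective j hj.2
    have : Finite ((Cov (canon Q) ⧸ S) ⧸ σ.ker) :=
      Finite.of_equiv Q (QuotientGroup.quotientKerEquivOfSurjective σ hstem.1).symm.toEquiv
    exact Finite.of_subgroup_quotient σ.ker
  exact ⟨Cov (canon Q) ⧸ S, inferInstance, this, σ, QuotientGroup.mk' S, hstem,
    ⟨(MulEquiv.ofBijective j hj).symm⟩, rfl, hp2, hj1⟩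

/-- A cover gives a retraction of the kernel onto the multiplier. -/
theorem exists_retraction_of_cover [Finite Q] {Γ : Type*} [Group Γ] {σ : Γ →* Q} (hσ : IsStemExtension σ)
    (hk : Nonempty (σ.ker ≃* M Q)) :
    ∃ (β : Cov (canon Q) →* Γ) (p : (covMap (canon Q)).ker →* M Q),
      σ.comp β = covMap (canon Q) ∧ Function.Surjective β ∧ (∀ r, β r.1 = β (p r).1) ∧
      (∀ m : M Q, p ⟨m.1, m.2.1⟩ = m) ∧ ∀ m : M Q, β m.1 = 1 → m = 1 := by
  obtain ⟨β, hβ0⟩ := exists_lift (canon Q) σ hσ.2.1 (MonoidHom.id Q) (fun q => hσ.1 q)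
  have hβ : σ.comp β = covMap (canon Q) := hβ0
  obtain ⟨e⟩ := hk
  have hmap := map_mult (canon Q) hσ.2.1 canon_surjective hβ
  rw [inf_eq_left.mpr hσ.2.2] at hmap
  let ψ : M Q →* σ.ker := (β.comp (mult (canon Q)).subtype).codRestrict σ.ker fun m =>
    (DFunLike.congr_fun hβ m.1).trans m.2.1
  have hs : Function.Surjective ψ := fun x => by
    obtain ⟨m, hm, hme⟩ : (x : Γ) ∈ (mult (canon Q)).map β := by rw [hmap]; exact x.2
    exact ⟨⟨m, hm⟩, Subtype.ext hme⟩
  have : Finite σ.ker := Finite.of_surjective ψ hs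
  have hb : Function.Bijective ψ :=
    (Nat.bijective_iff_surjective_and_card _).mpr ⟨hs, Nat.card_congr e.toEquiv.symm⟩
  let f : (covMap (canon Q)).ker →* σ.ker := (β.comp (covMap (canon Q)).ker.subtype).codRestrict σ.ker
    fun r => (DFunLike.congr_fun hβ r.1).trans r.2
  refine ⟨β, (MulEquiv.ofBijective ψ hb).symm.toMonoidHom.comp f, hβ, lift_surjective (canon Q) hσ canon_surjective hβ,
    fun r => ?_, fun m => ?_, fun m hm => hb.1 ((Subtype.ext hm : ψ m = 1).trans (map_one ψ).symm)⟩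
  · exact (congrArg Subtype.val ((MulEquiv.ofBijective ψ hb).apply_symm_apply (f r))).symm
  · exact (MulEquiv.ofBijective ψ hb).symm_apply_apply m

end Cfsg.Lib.Schur
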