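import Cfsg.Agent.Lib.Schur.Bilinear
import Mathlib.LinearAlgebra.TensorProduct.Basic
import Mathlib.RingTheory.TensorProduct.Finite
import Mathlib.GroupTheory.FiniteAbelian.Basic
import Mathlib.GroupTheory.NoncommCoprod
import Mathlib.GroupTheory.Abelianization.Defs

/-!
# The multiplier of a direct product
-/

set_option autoImplicit false

namespace Cfsg.Lib.Schur

open Subgroup
open scoped commutatorElement TensorProduct

universe u v w x

variable {Q₁ : Type u} {Q₂ : Type v} [Group Q₁] [Group Q₂]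

variable (Q₁ Q₂) in
/-- The tensor product of the commutator quotients. -/
abbrev AbTensor : Type (max u v) :=
  Multiplicative (Additive (Abelianization Q₁) ⊗[ℤ] Additive (Abelianization Q₂))

theorem finite_abTensor [Finite Q₁] [Finite Q₂] : Finite (AbTensor Q₁ Q₂) := by
  have : Finite (Additive (Abelianization Q₁)) := Finite.of_surjective
    (fun q : Q₁ => Additive.ofMul (Abelianization.of q)) QuotientGroup.mk_surjective
  have : Finite (Additive (Abelianization Q₂)) := Finite.of_surjective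
    (fun q : Q₂ => Additive.ofMul (Abelianization.of q)) QuotientGroup.mk_surjective
  have : Module.Finite ℤ (Additive (Abelianization Q₁)) := Module.Finite.of_finite
  have : Module.Finite ℤ (Additive (Abelianization Q₂)) := Module.Finite.of_finite
  have : Finite (Additive (Abelianization Q₁) ⊗[ℤ] Additive (Abelianization Q₂)) := by
    have hF : Module.Finite ℤ (Additive (Abelianization Q₁) ⊗[ℤ] Additive (Abelianization Q₂)) :=
      Module.Finite.tensorProduct ℤ (Additive (Abelianization Q₁)) (Additive (Abelianization Q₂))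
    refine @Module.finite_of_fg_torsion _ _ _ hF fun {t} =>
      ⟨⟨(Nat.card (Additive (Abelianization Q₁)) : ℤ),
        mem_nonZeroDivisors_of_ne_zero (by exact_mod_cast Nat.card_pos.ne')⟩, ?_⟩
    show (Nat.card (Additive (Abelianization Q₁)) : ℤ) • t = 0
    induction t using TensorProduct.induction_on with
    | zero => exact smul_zero _
    | tmul a b => rw [TensorProduct.smul_tmul', natCast_zsmul, card_nsmul_eq_zero', TensorProduct.zero_tmul]
    | add a b ha hb => rw [smul_add, ha, hb, add_zero]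
  exact inferInstanceAs (Finite (Additive (Abelianization Q₁) ⊗[ℤ] Additive (Abelianization Q₂)))

/-- The class of a pair in the tensor product of the commutator quotients. -/
def abTmul (q : Q₁) (r : Q₂) : AbTensor Q₁ Q₂ :=
  Multiplicative.ofAdd (Additive.ofMul (Abelianization.of q) ⊗ₜ[ℤ] Additive.ofMul (Abelianization.of r))

theorem abTmul_mul_left (q q' : Q₁) (r : Q₂) : abTmul (q * q') r = abTmul q r * abTmul q' r := by
  unfold abTmul
  rw [map_mul, ofMul_mul, TensorProduct.add_tmul, ofAdd_add]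

theorem abTmul_mul_right (q : Q₁) (r r' : Q₂) : abTmul q (r * r') = abTmul q r * abTmul q r' := by
  unfold abTmul
  rw [map_mul, ofMul_mul, TensorProduct.tmul_add, ofAdd_add]

theorem abTmul_one_left (r : Q₂) : abTmul (1 : Q₁) r = 1 := by
  unfold abTmul
  rw [map_one, ofMul_one, TensorProduct.zero_tmul, ofAdd_zero]

theorem abTmul_one_right (q : Q₁) : abTmul q (1 : Q₂) = 1 := by
  unfold abTmul
  rw [map_one, ofMul_one, TensorProduct.tmul_zero, ofAdd_zero]

theorem closure_abTmul : closure {t : AbTensor Q₁ Q₂ | ∃ q r, abTmul q r = t} = ⊤ := by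
  refine eq_top_iff.mpr fun t ht => ?_
  clear ht
  obtain ⟨s, rfl⟩ := Multiplicative.ofAdd.surjective t
  induction s using TensorProduct.induction_on with
  | zero => exact one_mem _
  | tmul a b =>
    obtain ⟨q, hq⟩ := QuotientGroup.mk_surjective (Additive.toMul a)
    obtain ⟨r, hr⟩ := QuotientGroup.mk_surjective (Additive.toMul b)
    refine subset_closure ⟨q, r, ?_⟩
    unfold abTmul
    rw [show Abelianization.of q = Additive.toMul a from hq, show Abelianization.of r = Additive.toMul b from hr]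
    rfl
  | add a b ha hb => exact mul_mem ha hb

variable [Finite Q₁] [Finite Q₂]

/-- A stem extension of a product with kernel the expected group. -/
theorem exists_product_cover :
    ∃ (Γ : Type (max u v)) (_ : Group Γ) (_ : Finite Γ) (σ : Γ →* Q₁ × Q₂),
      IsStemExtension σ ∧ Nonempty (σ.ker ≃* M Q₁ × M Q₂ × AbTensor Q₁ Q₂) := by
  obtain ⟨Γ₁, _, _, σ₁, hσ₁, ⟨e₁⟩⟩ := exists_cover (canon Q₁) canon_surjective
  obtain ⟨Γ₂, _, _, σ₂, hσ₂, ⟨e₂⟩⟩ := exists_cover (canon Q₂) canon_surjective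
  have := finite_abTensor (Q₁ := Q₁) (Q₂ := Q₂)
  let β : Pairing (Γ₁ × Γ₂) (AbTensor Q₁ Q₂) :=
    { toFun := fun x y => abTmul (σ₁ x.1) (σ₂ y.2)
      map_mul_left := fun a b c => by rw [Prod.fst_mul, map_mul, abTmul_mul_left]
      map_mul_right := fun a b c => by rw [Prod.snd_mul, map_mul, abTmul_mul_right] }
  let σ : β.Ext →* Q₁ × Q₂ := (σ₁.prodMap σ₂).comp β.proj
  have hker : ∀ x : β.Ext, σ x = 1 ↔ σ₁ x.base.1 = 1 ∧ σ₂ x.base.2 = 1 := fun x => by
    show (σ₁ x.base.1, σ₂ x.base.2) = 1 ↔ _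
    rw [Prod.ext_iff]; rfl
  let i₁ : Γ₁ →* β.Ext :=
    { toFun := fun x => ⟨(x, 1), 1⟩
      map_one' := rfl
      map_mul' := fun a b => by
        rw [Pairing.mul_def]
        exact Pairing.Ext.ext (by simp) (by simp [β, abTmul_one_right]) }
  let i₂ : Γ₂ →* β.Ext :=
    { toFun := fun x => ⟨(1, x), 1⟩
      map_one' := rfl
      map_mul' := fun a b => by
        rw [Pairing.mul_def]
        exact Pairing.Ext.ext (by simp) (by simp [β, abTmul_one_left]) }
  let i₃ : AbTensor Q₁ Q₂ →* β.Ext := β.proj.ker.subtype.comp β.kerEquiv.symm.toMonoidHom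
  have hi₃ : ∀ t, i₃ t ∈ commutator β.Ext := fun t => by
    have h : closure {t : AbTensor Q₁ Q₂ | ∃ q r, abTmul q r = t} ≤ (commutator β.Ext).comap i₃ := by
      rw [closure_le]
      rintro _ ⟨q, r, rfl⟩
      obtain ⟨x, rfl⟩ := hσ₁.1 q
      obtain ⟨y, rfl⟩ := hσ₂.1 r
      show i₃ _ ∈ commutator β.Ext
      have h1 := β.commutator_lift (g := ((x, 1) : Γ₁ × Γ₂)) (h := ((1, y) : Γ₁ × Γ₂)) (by simp)
      have h2 : β.toFun (x, 1) (1, y) * (β.toFun (1, y) (x, 1))⁻¹ = abTmul (σ₁ x) (σ₂ y) := by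
        simp [β, abTmul_one_right]
      rw [h2] at h1
      have h3 : i₃ (abTmul (σ₁ x) (σ₂ y)) = (⟨1, abTmul (σ₁ x) (σ₂ y)⟩ : β.Ext) := rfl
      rw [h3, ← h1]
      exact commutator_mem_commutator (mem_top _) (mem_top _)
    exact h (by rw [closure_abTmul]; exact mem_top t)
  have hdec : ∀ x : β.Ext, σ₁ x.base.1 = 1 → x = i₁ x.base.1 * i₂ x.base.2 * i₃ x.fib := fun x h => by
    show x = (⟨(x.base.1, 1), 1⟩ * ⟨(1, x.base.2), 1⟩ * ⟨1, x.fib⟩ : β.Ext)
    simp only [Pairing.mul_def]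
    exact Pairing.Ext.ext (by simp) (by simp [β, h, abTmul_one_left, abTmul_one_right])
  refine ⟨β.Ext, inferInstance, inferInstance, σ, ⟨?_, ?_, ?_⟩, ?_⟩
  · intro q
    obtain ⟨x, hx⟩ := hσ₁.1 q.1
    obtain ⟨y, hy⟩ := hσ₂.1 q.2
    exact ⟨⟨(x, y), 1⟩, Prod.ext hx hy⟩
  · intro k hk
    obtain ⟨h1, h2⟩ := (hker k).mp hk
    rw [mem_center_iff]
    intro y
    rw [Pairing.mul_def, Pairing.mul_def]
    refine Pairing.Ext.ext ?_ ?_
    · exact Prod.ext (mem_center_iff.mp (hσ₁.2.1 h1) _) (mem_center_iff.mp (hσ₂.2.1 h2) _)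
    · simp [β, h1, h2, abTmul_one_left, abTmul_one_right, mul_comm]
  · intro k hk
    obtain ⟨h1, h2⟩ := (hker k).mp hk
    rw [hdec k h1]
    refine mul_mem (mul_mem ?_ ?_) (hi₃ _)
    · have h : (commutator Γ₁).map i₁ ≤ commutator β.Ext := by
        rw [_root_.commutator_def, _root_.commutator_def, Subgroup.map_commutator]
        exact Subgroup.commutator_mono le_top le_top
      exact h (mem_map_of_mem _ (hσ₁.2.2 h1))
    · have h : (commutator Γ₂).map i₂ ≤ commutator β.Ext := by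
        rw [_root_.commutator_def, _root_.commutator_def, Subgroup.map_commutator]
        exact Subgroup.commutator_mono le_top le_top
      exact h (mem_map_of_mem _ (hσ₂.2.2 h2))
  · refine ⟨MulEquiv.trans
      { toFun := fun k => ((⟨k.1.base.1, ((hker k.1).mp k.2).1⟩ : σ₁.ker), (⟨k.1.base.2, ((hker k.1).mp k.2).2⟩ : σ₂.ker), k.1.fib)
        invFun := fun p => ⟨⟨(p.1.1, p.2.1.1), p.2.2⟩, (hker _).mpr ⟨p.1.2, p.2.1.2⟩⟩
        left_inv := fun k => rfl
        right_inv := fun p => rfl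
        map_mul' := fun a b => ?_ }
      (e₁.prodCongr (e₂.prodCongr (MulEquiv.refl _)))⟩
    refine Prod.ext (Subtype.ext rfl) (Prod.ext (Subtype.ext rfl) ?_)
    show a.1.fib * b.1.fib * abTmul (σ₁ a.1.base.1) (σ₂ b.1.base.2) = a.1.fib * b.1.fib
    rw [((hker a.1).mp a.2).1, abTmul_one_left, mul_one]

omit [Finite Q₁] [Finite Q₂] in
/-- The kernel of a stem extension of a product is an image of the expected group. -/
theorem exists_product_surjection {Δ : Type x} [Group Δ] {τ : Δ →* Q₁ × Q₂} (hτ : IsStemExtension τ) :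
    ∃ φ : M Q₁ × M Q₂ × AbTensor Q₁ Q₂ →* τ.ker, Function.Surjective φ := by
  let _ : CommGroup τ.ker :=
    { (inferInstance : Group τ.ker) with
      mul_comm := fun a b => Subtype.ext (mem_center_iff.mp (hτ.2.1 b.2) a) }
  obtain ⟨β₁, hβ₁⟩ := exists_lift (canon Q₁) τ hτ.2.1 (MonoidHom.inl Q₁ Q₂) (fun q => hτ.1 _)
  obtain ⟨β₂, hβ₂⟩ := exists_lift (canon Q₂) τ hτ.2.1 (MonoidHom.inr Q₁ Q₂) (fun q => hτ.1 _)
  have hb₁ : ∀ c, τ (β₁ c) = (covMap (canon Q₁) c, 1) := fun c => DFunLike.congr_fun hβ₁ c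
  have hb₂ : ∀ c, τ (β₂ c) = (1, covMap (canon Q₂) c) := fun c => DFunLike.congr_fun hβ₂ c
  let φ₁ : M Q₁ →* τ.ker := (β₁.comp (mult (canon Q₁)).subtype).codRestrict τ.ker fun c => by
    show τ (β₁ c.1) = 1
    rw [hb₁, show covMap (canon Q₁) c.1 = 1 from c.2.1]; rfl
  let φ₂ : M Q₂ →* τ.ker := (β₂.comp (mult (canon Q₂)).subtype).codRestrict τ.ker fun c => by
    show τ (β₂ c.1) = 1
    rw [hb₂, show covMap (canon Q₂) c.1 = 1 from c.2.1]; rfl
  choose s₁ hs₁ using fun q : Q₁ => covMap_surjective (canon Q₁) canon_surjective q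
  choose s₂ hs₂ using fun q : Q₂ => covMap_surjective (canon Q₂) canon_surjective q
  have hmemc : ∀ x y, ⁅β₁ x, β₂ y⁆ ∈ τ.ker := fun x y => by
    show τ _ = 1
    rw [map_commutatorElement, hb₁, hb₂, commutatorElement_eq_one_iff_mul_comm]
    simp
  let c : Q₁ → Q₂ → τ.ker := fun q r => ⟨⁅β₁ (s₁ q), β₂ (s₂ r)⁆, hmemc _ _⟩
  have hc : ∀ x y, (c (covMap (canon Q₁) x) (covMap (canon Q₂) y) : Δ) = ⁅β₁ x, β₂ y⁆ := fun x y => by
    show ⁅β₁ (s₁ _), β₂ (s₂ _)⁆ = ⁅β₁ x, β₂ y⁆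
    have h1 : β₁ (s₁ (covMap (canon Q₁) x)) * (β₁ x)⁻¹ ∈ center Δ := hτ.2.1 (by
      show τ _ = 1
      rw [map_mul, map_inv, hb₁, hb₁, hs₁, mul_inv_cancel])
    have h2 : β₂ (s₂ (covMap (canon Q₂) y)) * (β₂ y)⁻¹ ∈ center Δ := hτ.2.1 (by
      show τ _ = 1
      rw [map_mul, map_inv, hb₂, hb₂, hs₂, mul_inv_cancel])
    conv_lhs => rw [← inv_mul_cancel_right (β₁ (s₁ _)) (β₁ x), ← inv_mul_cancel_right (β₂ (s₂ _)) (β₂ y),
      commutatorElement_mul_central h1 h2]
  have hcl : ∀ q q' r, c (q * q') r = c q r * c q' r := fun q q' r => by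
    obtain ⟨x, rfl⟩ := covMap_surjective (canon Q₁) canon_surjective q
    obtain ⟨x', rfl⟩ := covMap_surjective (canon Q₁) canon_surjective q'
    obtain ⟨y, rfl⟩ := covMap_surjective (canon Q₂) canon_surjective r
    refine Subtype.ext ?_
    rw [← map_mul, Subgroup.coe_mul, hc, hc, hc, map_mul]
    have h := mem_center_iff.mp (hτ.2.1 (hmemc x' y))
    calc ⁅β₁ x * β₁ x', β₂ y⁆ = β₁ x * ⁅β₁ x', β₂ y⁆ * (β₁ x)⁻¹ * ⁅β₁ x, β₂ y⁆ := by
          simp [commutatorElement_def, mul_assoc]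
      _ = ⁅β₁ x, β₂ y⁆ * ⁅β₁ x', β₂ y⁆ := by rw [h, mul_inv_cancel_right, h]
  have hcr : ∀ q r r', c q (r * r') = c q r * c q r' := fun q r r' => by
    obtain ⟨x, rfl⟩ := covMap_surjective (canon Q₁) canon_surjective q
    obtain ⟨y, rfl⟩ := covMap_surjective (canon Q₂) canon_surjective r
    obtain ⟨y', rfl⟩ := covMap_surjective (canon Q₂) canon_surjective r'
    refine Subtype.ext ?_
    rw [← map_mul, Subgroup.coe_mul, hc, hc, hc, map_mul]
    have h := mem_center_iff.mp (hτ.2.1 (hmemc x y'))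
    calc ⁅β₁ x, β₂ y * β₂ y'⁆ = ⁅β₁ x, β₂ y⁆ * (β₂ y * ⁅β₁ x, β₂ y'⁆ * (β₂ y)⁻¹) := by
          simp [commutatorElement_def, mul_assoc]
      _ = ⁅β₁ x, β₂ y⁆ * ⁅β₁ x, β₂ y'⁆ := by rw [h, mul_inv_cancel_right]
  let cQ : Q₁ → (Abelianization Q₂ →* τ.ker) := fun q => Abelianization.lift (MonoidHom.mk' (c q) (hcr q))
  have hcQ : ∀ q q', cQ (q * q') = cQ q * cQ q' := fun q q' => MonoidHom.ext fun t => by
    obtain ⟨r, rfl⟩ := QuotientGroup.mk_surjective t
    exact hcl q q' r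
  let cc : Abelianization Q₁ →* (Abelianization Q₂ →* τ.ker) := Abelianization.lift (MonoidHom.mk' cQ hcQ)
  let f : Additive (Abelianization Q₁) →+ Additive (Abelianization Q₂) →+ Additive τ.ker :=
    { toFun := fun a => (cc a.toMul).toAdditive
      map_zero' := AddMonoidHom.ext fun b => congrArg Additive.ofMul (DFunLike.congr_fun (map_one cc) b.toMul)
      map_add' := fun a a' => AddMonoidHom.ext fun b =>
        congrArg Additive.ofMul (DFunLike.congr_fun (map_mul cc a.toMul a'.toMul) b.toMul) }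
  let θ : AbTensor Q₁ Q₂ →* τ.ker := AddMonoidHom.toMultiplicativeLeft (TensorProduct.liftAddHom f fun r a b => by
    rw [map_zsmul, AddMonoidHom.smul_apply, map_zsmul])
  have hθ : ∀ x y, θ (abTmul (covMap (canon Q₁) x) (covMap (canon Q₂) y)) =
      c (covMap (canon Q₁) x) (covMap (canon Q₂) y) := fun x y => rfl
  let φ : M Q₁ × M Q₂ × AbTensor Q₁ Q₂ →* τ.ker :=
    MonoidHom.noncommCoprod φ₁ (MonoidHom.noncommCoprod φ₂ θ fun a b => mul_comm _ _) fun a b => mul_comm _ _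
  refine ⟨φ, ?_⟩
  let Θ : Subgroup Δ := θ.range.map τ.ker.subtype
  have hΘ : Θ ≤ center Δ := (map_subtype_le _).trans hτ.2.1
  have : Θ.Normal := ⟨fun n hn g => by rwa [mem_center_iff.mp (hΘ hn) g, mul_inv_cancel_right]⟩
  let mk := QuotientGroup.mk' Θ
  have hcm : ∀ x y, Commute (mk (β₁ x)) (mk (β₂ y)) := fun x y => by
    rw [Commute, SemiconjBy, ← commutatorElement_eq_one_iff_mul_comm, ← map_commutatorElement]
    refine (QuotientGroup.eq_one_iff _).mpr ⟨c (covMap (canon Q₁) x) (covMap (canon Q₂) y), ⟨_, hθ x y⟩, hc x y⟩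
  let ψ := MonoidHom.noncommCoprod (mk.comp β₁) (mk.comp β₂) hcm
  have hcom : commutator (Δ ⧸ Θ) ≤ (commutator (Cov (canon Q₁) × Cov (canon Q₂))).map ψ := by
    refine commutator_le_map (Z := τ.ker.map mk) ?_ ψ fun e => ?_
    · rintro _ ⟨z, hz, rfl⟩
      rw [mem_center_iff]
      intro g
      obtain ⟨g, rfl⟩ := QuotientGroup.mk'_surjective Θ g
      rw [← map_mul, ← map_mul, mem_center_iff.mp (hτ.2.1 hz) g]
    · obtain ⟨d, rfl⟩ := QuotientGroup.mk'_surjective Θ e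
      refine ⟨(s₁ (τ d).1, s₂ (τ d).2), (β₁ (s₁ (τ d).1) * β₂ (s₂ (τ d).2))⁻¹ * d, ?_, ?_⟩
      · show τ _ = 1
        rw [map_mul, map_inv, map_mul, hb₁, hb₂, hs₁, hs₂]; simp
      · show mk _ = (mk (β₁ _) * mk (β₂ _))⁻¹ * mk d
        rw [map_mul, map_inv, map_mul]
  rintro ⟨k, hk⟩
  have h1 : mk k ∈ commutator (Δ ⧸ Θ) := by
    have h : (commutator Δ).map mk ≤ commutator (Δ ⧸ Θ) := by
      rw [_root_.commutator_def, _root_.commutator_def, Subgroup.map_commutator]
      exact Subgroup.commutator_mono le_top le_top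
    exact h (mem_map_of_mem _ (hτ.2.2 hk))
  obtain ⟨⟨x, y⟩, hxy, he⟩ := hcom h1
  rw [_root_.commutator_def, ← top_prod_top, Subgroup.commutator_prod_prod, ← _root_.commutator_def,
    ← _root_.commutator_def] at hxy
  obtain ⟨hx, hy⟩ := hxy
  have hmem : (β₁ x * β₂ y)⁻¹ * k ∈ Θ := by
    rw [← QuotientGroup.eq]
    show mk (β₁ x * β₂ y) = mk k
    rw [map_mul]; exact he
  obtain ⟨_, ⟨t, rfl⟩, ht⟩ := hmem
  have h2 : τ (β₁ x * β₂ y) = 1 := by
    have h3 : τ ((β₁ x * β₂ y)⁻¹ * k) = 1 := by rw [← ht]; exact (θ t).2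
    rw [map_mul, map_inv, show τ k = 1 from hk, mul_one, inv_eq_one] at h3
    exact h3
  rw [map_mul, hb₁, hb₂, Prod.mk_mul_mk, mul_one, one_mul, Prod.mk_eq_one] at h2
  refine ⟨(⟨x, h2.1, hx⟩, ⟨y, h2.2, hy⟩, t), Subtype.ext ?_⟩
  show β₁ x * (β₂ y * (θ t : Δ)) = k
  rw [← mul_assoc, show ((θ t : Δ)) = (β₁ x * β₂ y)⁻¹ * k from ht, mul_inv_cancel_left]

/-- The multiplier of a product. -/
theorem mult_prod_equiv : Nonempty (M Q₁ × M Q₂ × AbTensor Q₁ Q₂ ≃* M (Q₁ × Q₂)) := by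
  have := finite_abTensor (Q₁ := Q₁) (Q₂ := Q₂)
  refine nonempty_equiv_of_has ⟨exists_product_cover, fun Δ _ _ τ hτ => exists_product_surjection hτ⟩

end Cfsg.Lib.Schur
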