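import Cfsg.Agent.Lib.Schur.Basic
import Mathlib.Algebra.Category.Grp.Injective
import Mathlib.LinearAlgebra.Matrix.GeneralLinearGroup.Basic
import Mathlib.Analysis.Complex.Polynomial.Basic
import Mathlib.LinearAlgebra.Matrix.ToLin
import Mathlib.LinearAlgebra.Dimension.StrongRankCondition

/-!
# Projective representations and the free central extension
-/

set_option autoImplicit false

namespace Cfsg.Lib.Schur

open Subgroup

universe u v

/-- Every non-zero complex number has all integral roots. -/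
theorem exists_zpow_eq_unit {n : ℤ} (hn : n ≠ 0) (c : ℂˣ) : ∃ d : ℂˣ, d ^ n = c := by
  obtain ⟨z, hz⟩ := IsAlgClosed.exists_pow_nat_eq (c : ℂ) (Int.natAbs_pos.mpr hn)
  have hz0 : z ≠ 0 := fun h => c.ne_zero (by rw [← hz, h, zero_pow (Int.natAbs_pos.mpr hn).ne'])
  have h1 : (Units.mk0 z hz0) ^ n.natAbs = c := Units.ext (by rw [Units.val_pow_eq_pow_val]; exact hz)
  rcases Int.natAbs_eq n with e | e
  · exact ⟨Units.mk0 z hz0, by rw [e, zpow_natCast]; exact h1⟩
  · exact ⟨(Units.mk0 z hz0)⁻¹, by rw [e, inv_zpow', neg_neg, zpow_natCast]; exact h1⟩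

/-- A character of a subgroup meeting the derived subgroup trivially extends to the group. -/
theorem exists_extend_character {H : Type u} [Group H] {K : Subgroup H} (hK : K ⊓ commutator H = ⊥)
    (f : K →* ℂˣ) : ∃ g : H →* ℂˣ, ∀ k : K, g k = f k := by
  classical
  let ι : K →* Abelianization H := Abelianization.of.comp K.subtype
  have hι : Function.Injective ι := (injective_iff_map_eq_one ι).mpr fun k hk => by
    have : (k : H) ∈ K ⊓ commutator H := ⟨k.2, (QuotientGroup.eq_one_iff (k : H)).mp hk⟩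
    rw [hK, mem_bot] at this
    exact Subtype.ext this
  let e := MonoidHom.ofInjective hι
  let f' : ι.range →* ℂˣ := f.comp e.symm.toMonoidHom
  have hdiv : ∀ {n : ℤ}, n ≠ 0 → ∀ a : Additive ℂˣ, ∃ b : Additive ℂˣ, n • b = a := fun {n} hn a => by
    obtain ⟨d, hd⟩ := exists_zpow_eq_unit hn a.toMul
    exact ⟨Additive.ofMul d, Additive.toMul.injective hd⟩
  let _ : DivisibleBy (Additive ℂˣ) ℤ :=
    { div := fun a n => if hn : n = 0 then 0 else (hdiv hn a).choose
      div_zero := fun a => dif_pos rfl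
      div_cancel := fun {n} a hn => by rw [dif_neg hn]; exact (hdiv hn a).choose_spec }
  obtain ⟨g, hg⟩ := (Module.Baer.of_divisible (Additive ℂˣ)).extension_property_addMonoidHom
    ι.range.subtype.toAdditive (fun x y h => Subtype.ext h) f'.toAdditive
  refine ⟨(MonoidHom.toAdditive.symm g).comp Abelianization.of, fun k => ?_⟩
  have h := DFunLike.congr_fun hg (Additive.ofMul (e k))
  have h2 : f' (e k) = f k := congrArg f (e.symm_apply_apply k)
  rw [← h2]
  exact congrArg Additive.toMul h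

/-- The module of functions transforming by a character of a subgroup. -/
def indModule {Γ : Type u} [Group Γ] {K : Subgroup Γ} (χ : K →* ℂˣ) : Submodule ℂ (Γ → ℂ) where
  carrier := {f | ∀ (k : K) (g : Γ), f (g * k) = ((χ k)⁻¹ : ℂˣ) * f g}
  add_mem' := fun {a b} ha hb k g => by simp only [Pi.add_apply, ha k g, hb k g, mul_add]
  zero_mem' := fun k g => by simp
  smul_mem' := fun c f hf k g => by
    simp only [Pi.smul_apply, smul_eq_mul, hf k g]
    ring

/-- Translation on `indModule`. -/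
def indMap {Γ : Type u} [Group Γ] {K : Subgroup Γ} (χ : K →* ℂˣ) : Γ →* Module.End ℂ (indModule χ) where
  toFun a :=
    { toFun := fun f => ⟨fun g => f.1 (a⁻¹ * g), fun k g => by
        show f.1 (a⁻¹ * (g * k)) = _
        rw [← mul_assoc]; exact f.2 k _⟩
      map_add' := fun f f' => rfl
      map_smul' := fun c f => rfl }
  map_one' := LinearMap.ext fun f => Subtype.ext (funext fun g => by
    show f.1 (1⁻¹ * g) = f.1 g
    rw [inv_one, one_mul])
  map_mul' a b := LinearMap.ext fun f => Subtype.ext (funext fun g => by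
    show f.1 ((a * b)⁻¹ * g) = f.1 (b⁻¹ * (a⁻¹ * g))
    rw [mul_inv_rev, mul_assoc])

theorem indMap_apply {Γ : Type u} [Group Γ] {K : Subgroup Γ} (χ : K →* ℂˣ) (a : Γ) (f : indModule χ) (g : Γ) :
    (indMap χ a f).1 g = f.1 (a⁻¹ * g) := rfl

theorem indMap_central {Γ : Type u} [Group Γ] {K : Subgroup Γ} (hK : K ≤ center Γ) (χ : K →* ℂˣ) (k : K) :
    indMap χ k = (χ k : ℂ) • LinearMap.id := by
  refine LinearMap.ext fun f => Subtype.ext (funext fun g => ?_)
  show f.1 ((k : Γ)⁻¹ * g) = (χ k : ℂ) * f.1 g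
  rw [← mem_center_iff.mp (inv_mem (hK k.2)) g, show (k : Γ)⁻¹ = ((k⁻¹ : K) : Γ) from rfl, f.2 k⁻¹ g, map_inv,
    inv_inv]

open scoped Classical in
/-- The function supported on the subgroup. -/
noncomputable def indBase {Γ : Type u} [Group Γ] {K : Subgroup Γ} (χ : K →* ℂˣ) : indModule χ :=
  ⟨fun g => if h : g ∈ K then (((χ ⟨g, h⟩)⁻¹ : ℂˣ) : ℂ) else 0, fun k g => by
    by_cases h : g ∈ K
    · simp only [dif_pos h, dif_pos (mul_mem h k.2)]
      rw [show (⟨g * k, mul_mem h k.2⟩ : K) = ⟨g, h⟩ * k from rfl, map_mul, mul_inv_rev, Units.val_mul]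
    · simp only [dif_neg h, dif_neg (fun hc => h ((mul_mem_cancel_right k.2).mp hc)), mul_zero]⟩

theorem indBase_ne_zero {Γ : Type u} [Group Γ] {K : Subgroup Γ} (χ : K →* ℂˣ) : indBase χ ≠ 0 := by
  intro h
  have h1 : (indBase χ).1 1 = 0 := by rw [h]; rfl
  simp only [indBase, dif_pos (one_mem K)] at h1
  exact Units.ne_zero _ h1

/-- A finite group has a representation in which a central subgroup acts by a given character. -/
theorem exists_rep_with_character {Γ : Type u} [Group Γ] [Finite Γ] {K : Subgroup Γ} (hK : K ≤ center Γ)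
    (χ : K →* ℂˣ) :
    ∃ (n : ℕ) (ρ : Γ →* GL (Fin n) ℂ), 0 < n ∧ ∀ k : K, ρ k = Matrix.GeneralLinearGroup.scalar (Fin n) (χ k) := by
  let V := indModule χ
  have : FiniteDimensional ℂ (Γ → ℂ) := inferInstance
  let b := Module.finBasis ℂ V
  have hpos : 0 < Module.finrank ℂ V := by
    rw [Module.finrank_pos_iff]
    exact ⟨⟨indBase χ, 0, indBase_ne_zero χ⟩⟩
  refine ⟨Module.finrank ℂ V, ((LinearMap.toMatrixAlgEquiv b).toMulEquiv.toMonoidHom.comp (indMap χ)).toHomUnits,
    hpos, fun k => Units.ext ?_⟩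
  show LinearMap.toMatrixAlgEquiv b (indMap χ k) = Matrix.scalar (Fin (Module.finrank ℂ V)) (χ k : ℂ)
  rw [indMap_central hK χ k, map_smul, show (LinearMap.id : Module.End ℂ V) = 1 from rfl, map_one,
    Matrix.scalar_apply, ← Matrix.smul_one_eq_diagonal]

/-- The scalar matrices of positive size determine the scalar. -/
theorem scalar_injective {n : ℕ} (hn : 0 < n) :
    Function.Injective (Matrix.GeneralLinearGroup.scalar (Fin n) : ℂˣ →* GL (Fin n) ℂ) := by
  intro a b h
  have h1 : Matrix.scalar (Fin n) (a : ℂ) = Matrix.scalar (Fin n) (b : ℂ) := congrArg Units.val h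
  refine Units.ext ?_
  have h2 := congrFun (congrFun h1 ⟨0, hn⟩) ⟨0, hn⟩
  simpa [Matrix.scalar_apply] using h2

/-- A projective representation lifts along an extension covered by the free central extension, when the
kernel of the covering map misses the multiplier. -/
theorem exists_lift_projective {F : Type u} [Group F] [IsFreeGroup F] {Q : Type v} [Group Q] {π₀ : F →* Q}
    {Γ : Type*} [Group Γ] {σ : Γ →* Q} {β : Cov π₀ →* Γ} (hβs : Function.Surjective β)
    (hβ : σ.comp β = covMap π₀) (hbot : β.ker ⊓ mult π₀ = ⊥) (n : ℕ)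
    (γ : Q →* (GL (Fin n) ℂ ⧸ center (GL (Fin n) ℂ))) :
    ∃ ρ : Γ →* GL (Fin n) ℂ, (QuotientGroup.mk' (center (GL (Fin n) ℂ))).comp ρ = γ.comp σ := by
  rcases Nat.eq_zero_or_pos n with rfl | hn
  · have : Subsingleton (GL (Fin 0) ℂ ⧸ center (GL (Fin 0) ℂ)) := QuotientGroup.mk_surjective.subsingleton
    exact ⟨1, MonoidHom.ext fun x => Subsingleton.elim _ _⟩
  obtain ⟨φ, hφ⟩ := exists_lift π₀ (QuotientGroup.mk' (center (GL (Fin n) ℂ)))
    (by rw [QuotientGroup.ker_mk']) γ (fun q => by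
      obtain ⟨x, hx⟩ := QuotientGroup.mk'_surjective _ (γ q)
      exact ⟨x, hx⟩)
  set sc := (Matrix.GeneralLinearGroup.scalar (Fin n) : ℂˣ →* GL (Fin n) ℂ) with hsc
  have hcen : center (GL (Fin n) ℂ) = sc.range := Matrix.GeneralLinearGroup.center_eq_range_scalar
  have hk : β.ker ≤ (covMap π₀).ker := fun c hc => by
    show covMap π₀ c = 1
    rw [← hβ, MonoidHom.comp_apply, show β c = 1 from hc, map_one]
  have hφk : ∀ c ∈ β.ker, φ c ∈ sc.range := fun c hc => by
    rw [← hcen, ← QuotientGroup.eq_one_iff]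
    have h := DFunLike.congr_fun hφ c
    rw [MonoidHom.comp_apply, MonoidHom.comp_apply, show covMap π₀ c = 1 from hk hc, map_one] at h
    exact h
  have hcomm : β.ker ⊓ commutator (Cov π₀) = ⊥ := by
    rw [eq_bot_iff, ← hbot]
    exact fun c hc => ⟨hc.1, hk hc.1, hc.2⟩
  let f : β.ker →* ℂˣ := (MonoidHom.ofInjective (scalar_injective hn)).symm.toMonoidHom.comp
    ((φ.comp β.ker.subtype).codRestrict sc.range fun c => hφk c c.2)
  obtain ⟨g, hg⟩ := exists_extend_character hcomm f
  let φ' : Cov π₀ →* GL (Fin n) ℂ :=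
    { toFun := fun c => φ c * (sc (g c))⁻¹
      map_one' := by rw [map_one φ, map_one g, map_one sc, inv_one, mul_one]
      map_mul' := fun a b => by
        have hz : ∀ c, (sc (g c))⁻¹ ∈ center (GL (Fin n) ℂ) := fun c => hcen ▸ inv_mem ⟨g c, rfl⟩
        rw [map_mul φ, map_mul g, map_mul sc, mul_inv_rev, mem_center_iff.mp (hz a) (sc (g b))⁻¹,
          ← mul_assoc, mul_assoc (φ a) (φ b), mem_center_iff.mp (hz a) (φ b), ← mul_assoc, mul_assoc] }
  have hφ' : β.ker ≤ φ'.ker := fun c hc => by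
    show φ c * (sc (g c))⁻¹ = 1
    rw [mul_inv_eq_one, show g c = f ⟨c, hc⟩ from hg ⟨c, hc⟩]
    exact (congrArg Subtype.val ((MonoidHom.ofInjective (scalar_injective hn)).apply_symm_apply ⟨φ c, hφk c hc⟩)).symm
  refine ⟨β.liftOfSurjective hβs ⟨φ', hφ'⟩, MonoidHom.ext fun x => ?_⟩
  obtain ⟨c, rfl⟩ := hβs x
  show QuotientGroup.mk' _ (β.liftOfSurjective hβs ⟨φ', hφ'⟩ (β c)) = γ (σ (β c))
  rw [show β.liftOfSurjective hβs ⟨φ', hφ'⟩ (β c) = φ' c from MonoidHom.liftOfRightInverse_comp_apply _ _ _ _ c,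
    show σ (β c) = covMap π₀ c from DFunLike.congr_fun hβ c]
  show QuotientGroup.mk' _ (φ c * (sc (g c))⁻¹) = _
  rw [map_mul, show QuotientGroup.mk' (center (GL (Fin n) ℂ)) (sc (g c))⁻¹ = 1 from
    (QuotientGroup.eq_one_iff _).mpr (hcen ▸ inv_mem ⟨g c, rfl⟩), mul_one]
  exact DFunLike.congr_fun hφ c

end Cfsg.Lib.Schur
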