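import Cfsg.Agent.Lib.Schur.ProjRep
import Mathlib.RepresentationTheory.Maschke
import Mathlib.RingTheory.SimpleModule.IsAlgClosed
import Mathlib.LinearAlgebra.Matrix.GeneralLinearGroup.Defs

/-!
# The degrees of the representations with a given central character
-/

set_option autoImplicit false

namespace Cfsg.Lib.Schur

open Subgroup Module

universe u

variable {Γ : Type u} [Group Γ] [Finite Γ] {K : Subgroup Γ}

/-- Right translation on `indModule`. -/
def indRight (hK : K ≤ center Γ) (χ : K →* ℂˣ) (x : Γ) : indModule χ →ₗ[ℂ] indModule χ where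
  toFun f := ⟨fun g => f.1 (g * x), fun k g => by
    show f.1 (g * k * x) = _
    rw [mul_assoc, ← mem_center_iff.mp (hK k.2) x, ← mul_assoc]
    exact f.2 k _⟩
  map_add' := fun f f' => rfl
  map_smul' := fun c f => rfl

theorem indRight_indMap (hK : K ≤ center Γ) (χ : K →* ℂˣ) (x a : Γ) (f : indModule χ) :
    indMap χ a (indRight hK χ x f) = indRight hK χ x (indMap χ a f) :=
  Subtype.ext (funext fun g => by
    show f.1 (a⁻¹ * g * x) = f.1 (a⁻¹ * (g * x))
    rw [mul_assoc])

open scoped Classical in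
theorem indBase_apply_comm (hK : K ≤ center Γ) (χ : K →* ℂˣ) (g x : Γ) :
    (indBase χ).1 (g * x) = (indBase χ).1 (x * g) := by
  by_cases h : g * x ∈ K
  · have e : x * g = g * x := by
      calc x * g = g⁻¹ * (g * x) * g := by group
        _ = g⁻¹ * (g * (g * x)) := by rw [mul_assoc, ← mem_center_iff.mp (hK h) g]
        _ = g * x := inv_mul_cancel_left g _
    rw [e]
  · have h' : x * g ∉ K := fun hc => h (by
      have e : g * x = x * g := by
        calc g * x = x⁻¹ * (x * g) * x := by group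
          _ = x⁻¹ * (x * (x * g)) := by rw [mul_assoc, ← mem_center_iff.mp (hK hc) x]
          _ = x * g := inv_mul_cancel_left x _
      rwa [e])
    show (dite (g * x ∈ K) _ _) = (dite (x * g ∈ K) _ _)
    rw [dif_neg h, dif_neg h']

theorem indRight_indBase (hK : K ≤ center Γ) (χ : K →* ℂˣ) (x : Γ) :
    indRight hK χ x (indBase χ) = indMap χ x⁻¹ (indBase χ) :=
  Subtype.ext (funext fun g => by
    show (indBase χ).1 (g * x) = (indBase χ).1 (x⁻¹⁻¹ * g)
    rw [inv_inv, indBase_apply_comm hK χ])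

open scoped Classical in
/-- `indModule` as the functions on the cosets. -/
noncomputable def indEquiv (χ : K →* ℂˣ) [Fintype (Γ ⧸ K)] : indModule χ ≃ₗ[ℂ] (Γ ⧸ K → ℂ) where
  toFun f q := f.1 q.out
  map_add' _ _ := rfl
  map_smul' _ _ := rfl
  invFun φ := ∑ q : Γ ⧸ K, φ q • indMap χ q.out (indBase χ)
  left_inv f := Subtype.ext (funext fun g => by
    rw [Submodule.coe_sum, Finset.sum_apply, Finset.sum_eq_single (g : Γ ⧸ K)]
    · show f.1 (g : Γ ⧸ K).out * (indBase χ).1 ((g : Γ ⧸ K).out⁻¹ * g) = f.1 g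
      have hk : (g : Γ ⧸ K).out⁻¹ * g ∈ K := by rw [← QuotientGroup.eq, QuotientGroup.out_eq']
      rw [show (indBase χ).1 ((g : Γ ⧸ K).out⁻¹ * g) = (((χ ⟨_, hk⟩)⁻¹ : ℂˣ) : ℂ) from dif_pos hk, mul_comm,
        ← f.2 ⟨_, hk⟩, mul_inv_cancel_left]
    · intro q _ hq
      show f.1 q.out * (indBase χ).1 (q.out⁻¹ * g) = 0
      rw [show (indBase χ).1 (q.out⁻¹ * g) = 0 from dif_neg (fun h => hq (by
        rw [← QuotientGroup.out_eq' q, QuotientGroup.eq]; exact h)), mul_zero]
    · exact fun h => absurd (Finset.mem_univ _) h)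
  right_inv φ := funext fun q => by
    show (∑ q' : Γ ⧸ K, φ q' • indMap χ q'.out (indBase χ)).1 q.out = φ q
    rw [Submodule.coe_sum, Finset.sum_apply, Finset.sum_eq_single q]
    · show φ q * (indBase χ).1 (q.out⁻¹ * q.out) = φ q
      rw [show (indBase χ).1 (q.out⁻¹ * q.out) = 1 by
        rw [inv_mul_cancel]
        show dite (1 ∈ K) _ _ = _
        rw [dif_pos (one_mem K), show (⟨1, one_mem K⟩ : K) = 1 from rfl, map_one, inv_one, Units.val_one], mul_one]
    · intro q' _ hq
      show φ q' * (indBase χ).1 (q'.out⁻¹ * q.out) = 0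
      rw [show (indBase χ).1 (q'.out⁻¹ * q.out) = 0 from dif_neg (fun h => hq (by
        rw [← QuotientGroup.out_eq' q', ← QuotientGroup.out_eq' q, QuotientGroup.eq]; exact h)), mul_zero]
    · exact fun h => absurd (Finset.mem_univ _) h

/-- The square of the order of a central character of `K ≤ commutator Γ` divides the index of `K`. -/
theorem sq_orderOf_dvd_index (hK : K ≤ center Γ) (hc : K ≤ commutator Γ) (χ : K →* ℂˣ) :
    orderOf χ ^ 2 ∣ K.index := by
  classical
  let _ : Fintype (Γ ⧸ K) := Fintype.ofFinite _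
  let V := indModule χ
  have : NeZero (Nat.card Γ : ℂ) := ⟨Nat.cast_ne_zero.mpr Nat.card_pos.ne'⟩
  let L := MonoidAlgebra.lift ℂ (Module.End ℂ V) Γ (indMap χ)
  let R : Subalgebra ℂ (Module.End ℂ V) := L.range
  let _ : Ring R := Subalgebra.toRing (R := ℂ) (A := Module.End ℂ V) R
  have : IsSemisimpleRing R :=
    RingHom.isSemisimpleRing_of_surjective L.rangeRestrict.toRingHom L.rangeRestrict_surjective
  have hof : ∀ a : Γ, indMap χ a ∈ R := fun a => ⟨MonoidAlgebra.of ℂ Γ a, MonoidAlgebra.lift_of _ _⟩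
  let ev : R →ₗ[ℂ] V :=
    { toFun := fun T => (T : Module.End ℂ V) (indBase χ)
      map_add' := fun _ _ => rfl
      map_smul' := fun _ _ => rfl }
  have hcomm : ∀ (m : MonoidAlgebra ℂ Γ) (x : Γ) (f : V), L m (indRight hK χ x f) = indRight hK χ x (L m f) := by
    intro m x f
    induction m using MonoidAlgebra.induction_on with
    | of a =>
      rw [show L (MonoidAlgebra.of ℂ Γ a) = indMap χ a from MonoidAlgebra.lift_of _ _]
      exact indRight_indMap hK χ x a f
    | add a b ha hb => rw [map_add, LinearMap.add_apply, LinearMap.add_apply, map_add, ha, hb]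
    | smul c a ha => rw [map_smul, LinearMap.smul_apply, LinearMap.smul_apply, map_smul, ha]
  have hev : Function.Bijective ev := by
    refine ⟨(injective_iff_map_eq_zero ev).mpr ?_, fun f => ?_⟩
    · rintro ⟨_, m, rfl⟩ hT
      refine Subtype.ext (LinearMap.ext fun f => ?_)
      show L m f = 0
      rw [← (indEquiv χ).symm_apply_apply f]
      show L m (∑ q : Γ ⧸ K, indEquiv χ f q • indMap χ q.out (indBase χ)) = 0
      rw [map_sum]
      refine Finset.sum_eq_zero fun q _ => ?_
      rw [map_smul, ← inv_inv q.out, ← indRight_indBase hK χ, hcomm, show L m (indBase χ) = 0 from hT, map_zero,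
        smul_zero]
    · refine ⟨∑ q : Γ ⧸ K, indEquiv χ f q • ⟨indMap χ q.out, hof q.out⟩, ?_⟩
      rw [map_sum]
      exact (indEquiv χ).symm_apply_apply f
  have hdim : finrank ℂ R = K.index := by
    rw [(LinearEquiv.ofBijective ev hev).finrank_eq, (indEquiv χ).finrank_eq, finrank_pi,
      Subgroup.index_eq_card, Nat.card_eq_fintype_card]
  have : FiniteDimensional ℂ R := Module.Finite.of_injective ev hev.1
  obtain ⟨n, d, hd, ⟨e⟩⟩ := IsSemisimpleRing.exists_algEquiv_pi_matrix_of_isAlgClosed ℂ R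
  have hsum : K.index = ∑ i, d i * d i := by
    rw [← hdim, e.toLinearEquiv.finrank_eq, finrank_pi_fintype]
    exact Finset.sum_congr rfl fun i _ => by rw [finrank_matrix, Fintype.card_fin, finrank_self, mul_one]
  rw [hsum]
  refine Finset.dvd_sum fun i _ => ?_
  rw [sq]
  refine Nat.mul_dvd_mul ?_ ?_ <;>
  · refine orderOf_dvd_of_pow_eq_one (MonoidHom.ext fun k => ?_)
    let ρ₀ : Γ →* R := (indMap χ).codRestrict R.toSubsemiring.toSubmonoid hof
    let ρ : Γ →* Matrix (Fin (d i)) (Fin (d i)) ℂ :=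
      (Pi.evalMonoidHom (fun j => Matrix (Fin (d j)) (Fin (d j)) ℂ) i).comp (e.toMulEquiv.toMonoidHom.comp ρ₀)
    let δ : Γ →* ℂˣ := (Matrix.GeneralLinearGroup.det).comp ρ.toHomUnits
    have h1 : δ k = 1 := Abelianization.commutator_subset_ker δ (hc k.2)
    have h2 : ρ₀ k = (χ k : ℂ) • 1 := Subtype.ext (indMap_central hK χ k)
    have h3 : ρ k = (χ k : ℂ) • 1 := by
      show e (ρ₀ k) i = _
      rw [h2, map_smul, map_one]; rfl
    have h4 : Matrix.det (ρ k) = 1 := congrArg Units.val h1
    rw [h3, Matrix.det_smul, Matrix.det_one, mul_one, Fintype.card_fin] at h4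
    exact Units.ext (by rw [MonoidHom.pow_apply, Units.val_pow_eq_pow_val]; exact h4)

end Cfsg.Lib.Schur
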